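import Mathlib

/-!
# Counting elements inverted by an involutory automorphism (helper383, S5721)

* `Tw α` : the elements `x` with `x * α x = 1`; `fix α` : the subgroup of fixed elements;
* `CubeBound T` : `|T| < |C_T(α)| ^ 3` for every automorphism `α` of order two;
* `card_le` (Lemma A) : `|T| ≤ |C_T(α)| |Tw α|` if `α² = 1`; `card_le_pred` : `|T| ≤ |C_T(α)| (|Tw α| - 1)` if `α` is inner;
* `tw_sq_le` (Lemma K) : `|Tw α| ^ 2 ≤ k(T) |T|`; `tw_sq_le_of` : the version with the elements `g` such that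
  `x α(g) x⁻¹ = g⁻¹` for some `x ∈ Tw α`;
* `CubeBound.of_tw`, `CubeBound.of_card_conjClasses` : the criteria `|Tw α| ^ 3 < |T| ^ 2`, `k(T) ^ 3 < |T|`;
* `CubeBound.congr` : invariance under isomorphism.
-/

set_option autoImplicit false

namespace Cfsg.Agent.H383.Cube

variable {T : Type*} [Group T]

/-- the elements `x` with `x * α x = 1` -/
def Tw (α : MulAut T) : Set T := {x | x * α x = 1}

theorem mem_tw {α : MulAut T} {x : T} : x ∈ Tw α ↔ x * α x = 1 := Iff.rfl

theorem apply_eq_inv {α : MulAut T} {x : T} (hx : x ∈ Tw α) : α x = x⁻¹ := (inv_eq_of_mul_eq_one_right hx).symm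

theorem one_mem_tw (α : MulAut T) : (1 : T) ∈ Tw α := by rw [mem_tw, map_one, mul_one]

/-- the subgroup of the elements fixed by `α` -/
def fix (α : MulAut T) : Subgroup T where
  carrier := {t | α t = t}
  mul_mem' := by
    intro a b ha hb
    change α (a * b) = a * b
    rw [map_mul, ha, hb]
  one_mem' := map_one α
  inv_mem' := by
    intro a ha
    change α a⁻¹ = a⁻¹
    rw [map_inv, ha]

theorem mem_fix {α : MulAut T} {x : T} : x ∈ fix α ↔ α x = x := Iff.rfl

theorem card_fix (α : MulAut T) : Nat.card ↥(fix α) = Nat.card {t : T // α t = t} := rfl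

theorem sq_apply {α : MulAut T} (hα : α * α = 1) (x : T) : α (α x) = x := by
  have := congrArg (fun β : MulAut T => β x) hα
  exact this

theorem mul_inv_mem_tw {α : MulAut T} (hα : α * α = 1) (g : T) : g * (α g)⁻¹ ∈ Tw α := by
  rw [mem_tw, map_mul, map_inv, sq_apply hα]
  group

/-- the map `g ↦ g * (α g)⁻¹` -/
theorem quot_inj {α : MulAut T} (hα : α * α = 1) :
    ∃ f : T ⧸ fix α → Tw α, Function.Injective f ∧ ∀ x, ∃ g : T, (f x : T) = g * (α g)⁻¹ := by
  have hwd : ∀ a b : T, QuotientGroup.leftRel (fix α) a b → a * (α a)⁻¹ = b * (α b)⁻¹ := by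
    intro a b hab
    rw [QuotientGroup.leftRel_apply, mem_fix, map_mul, map_inv] at hab
    have h1 : α b = α a * (a⁻¹ * b) := by rw [← hab]; group
    rw [h1]
    group
  refine ⟨fun x => Quotient.liftOn x (fun g => (⟨g * (α g)⁻¹, mul_inv_mem_tw hα g⟩ : Tw α))
    (fun a b hab => Subtype.ext (hwd a b hab)), ?_, ?_⟩
  · intro x y
    induction x using QuotientGroup.induction_on with | H a => ?_
    induction y using QuotientGroup.induction_on with | H b => ?_
    intro h
    have h1 : a * (α a)⁻¹ = b * (α b)⁻¹ := congrArg Subtype.val h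
    rw [QuotientGroup.eq, mem_fix, map_mul, map_inv]
    have h2 : (α a)⁻¹ = a⁻¹ * (b * (α b)⁻¹) := by rw [← h1]; group
    rw [h2]
    group
  · intro x
    induction x using QuotientGroup.induction_on with | H a => ?_
    exact ⟨a, rfl⟩

/-- **Lemma A** -/
theorem card_le [Finite T] {α : MulAut T} (hα : α * α = 1) :
    Nat.card T ≤ Nat.card {t : T // α t = t} * Nat.card (Tw α) := by
  obtain ⟨f, hf, -⟩ := quot_inj hα
  have h1 := Subgroup.card_eq_card_quotient_mul_card_subgroup (fix α)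
  rw [h1, card_fix, mul_comm]
  exact Nat.mul_le_mul_left _ (Nat.card_le_card_of_injective f hf)

/-- **Lemma A** for inner automorphisms -/
theorem card_le_pred [Finite T] {t : T} (ht : t * t = 1) (ht1 : t ≠ 1) :
    Nat.card T ≤ Nat.card {x : T // MulAut.conj t x = x} * (Nat.card (Tw (MulAut.conj t)) - 1) := by
  have hα : MulAut.conj t * MulAut.conj t = 1 := by rw [← map_mul, ht, map_one]
  obtain ⟨f, hf, hf'⟩ := quot_inj hα
  have hti : t⁻¹ = t := inv_eq_of_mul_eq_one_right ht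
  have htw : t ∈ Tw (MulAut.conj t) := by
    rw [mem_tw, MulAut.conj_apply, hti, ht, one_mul, ht]
  have hne : ∀ x, f x ≠ ⟨t, htw⟩ := by
    intro x hx
    obtain ⟨g, hg⟩ := hf' x
    rw [hx] at hg
    simp only [MulAut.conj_apply, mul_inv_rev, inv_inv] at hg
    -- t = g * (t * (g⁻¹ * t⁻¹))
    have h2 : g * t * g⁻¹ = t * t := by
      calc g * t * g⁻¹ = (g * (t * (g⁻¹ * t⁻¹))) * t := by group
        _ = t * t := by rw [← hg]
    rw [ht] at h2
    apply ht1
    have h3 : t = g⁻¹ * (g * t * g⁻¹) * g := by group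
    rw [h3, h2]
    group
  have h1 := Subgroup.card_eq_card_quotient_mul_card_subgroup (fix (MulAut.conj t))
  rw [h1, card_fix, mul_comm]
  apply Nat.mul_le_mul_left
  have h2 : Nat.card (T ⧸ fix (MulAut.conj t)) ≤ Nat.card {x : Tw (MulAut.conj t) // x ≠ ⟨t, htw⟩} :=
    Nat.card_le_card_of_injective (fun x => ⟨f x, hne x⟩) fun x y h => hf (congrArg Subtype.val h)
  refine h2.trans ?_
  classical
  have := Fintype.ofFinite (Tw (MulAut.conj t))
  rw [Nat.card_eq_fintype_card, Nat.card_eq_fintype_card, Fintype.card_subtype_compl, Fintype.card_subtype_eq]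

/-- the pairs `(g, y)`, `g` turned into its inverse by some `conj x * α` with `x ∈ Tw α`, `y` commuting with `g` -/
theorem tw_sq_le_of [Finite T] (α : MulAut T) (R : Set T)
    (hR : ∀ g x : T, x ∈ Tw α → x * α g * x⁻¹ = g⁻¹ → g ∈ R) :
    Nat.card (Tw α) ^ 2 ≤ Nat.card {p : T × T // p.1 ∈ R ∧ Commute p.1 p.2} := by
  classical
  -- a chosen solution for every `g`
  let P : T → T → Prop := fun g x => x ∈ Tw α ∧ x * α g * x⁻¹ = g⁻¹
  let c : T → T := fun g => if h : ∃ x, P g x then h.choose else 1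
  have hc : ∀ g x, P g x → P g (c g) := by
    intro g x hx
    have h : ∃ x, P g x := ⟨x, hx⟩
    simp only [c, dif_pos h]
    exact h.choose_spec
  have hP : ∀ x y : Tw α, P (x * (y : T)⁻¹) x := by
    intro x y
    refine ⟨x.2, ?_⟩
    rw [map_mul, map_inv, apply_eq_inv x.2, apply_eq_inv y.2]
    group
  rw [sq, ← Nat.card_prod]
  refine Nat.card_le_card_of_injective (fun p : Tw α × Tw α =>
    (⟨(p.1 * (p.2 : T)⁻¹, α ((c (p.1 * (p.2 : T)⁻¹))⁻¹ * p.1)), ?_, ?_⟩ :
      {p : T × T // p.1 ∈ R ∧ Commute p.1 p.2})) ?_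
  · exact hR _ _ p.1.2 (hP p.1 p.2).2
  · obtain ⟨x, y⟩ := p
    have h1 := hP x y
    have h2 := hc _ _ h1
    simp only
    set g := (x : T) * (y : T)⁻¹ with hg
    set d := c g with hd
    -- d⁻¹ x commutes with α g
    have h3 : Commute (α g) (d⁻¹ * x) := by
      have e1 : (x : T) * α g * (x : T)⁻¹ = d * α g * d⁻¹ := by rw [h1.2, h2.2]
      have e2 : d⁻¹ * (x * α g * (x : T)⁻¹) * x = d⁻¹ * (d * α g * d⁻¹) * x := by rw [e1]
      have e3 : d⁻¹ * x * α g = α g * (d⁻¹ * x) := by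
        calc d⁻¹ * x * α g = d⁻¹ * (x * α g * (x : T)⁻¹) * x := by group
          _ = d⁻¹ * (d * α g * d⁻¹) * x := e2
          _ = α g * (d⁻¹ * x) := by group
      exact e3.symm
    -- conj by x: x α(g) x⁻¹ = g⁻¹
    have h4 : α (d⁻¹ * x) = d * (x : T)⁻¹ := by
      rw [map_mul, map_inv, apply_eq_inv x.2, apply_eq_inv h2.1]
      group
    rw [h4]
    -- g commutes with d x⁻¹: d x⁻¹ g⁻¹ x d⁻¹ = d (α g) d⁻¹ = g⁻¹
    have h5 : (x : T)⁻¹ * g⁻¹ * x = α g := by rw [← h1.2]; group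
    have h6 : d * (x : T)⁻¹ * g⁻¹ = g⁻¹ * (d * (x : T)⁻¹) := by
      calc d * (x : T)⁻¹ * g⁻¹ = d * ((x : T)⁻¹ * g⁻¹ * x) * (x : T)⁻¹ := by group
        _ = (d * α g * d⁻¹) * (d * (x : T)⁻¹) := by rw [h5]; group
        _ = g⁻¹ * (d * (x : T)⁻¹) := by rw [h2.2]
    have h7 : Commute (d * (x : T)⁻¹) g⁻¹ := h6
    exact (Commute.inv_right_iff.1 h7).symm
  · rintro ⟨x, y⟩ ⟨x', y'⟩ h
    have h1 := congrArg (fun q => q.1) h
    simp only [Prod.mk.injEq] at h1
    obtain ⟨e1, e2⟩ := h1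
    rw [e1] at e2
    have e3 := α.injective e2
    have e4 : x = x' := Subtype.ext (mul_left_cancel e3)
    subst e4
    have e5 : y = y' := Subtype.ext (inv_injective (mul_left_cancel e1))
    rw [e5]

/-- **Lemma K** -/
theorem tw_sq_le [Finite T] (α : MulAut T) :
    Nat.card (Tw α) ^ 2 ≤ Nat.card (ConjClasses T) * Nat.card T := by
  refine (tw_sq_le_of α Set.univ fun _ _ _ _ => Set.mem_univ _).trans ?_
  rw [← card_comm_eq_card_conjClasses_mul_card]
  exact Nat.card_le_card_of_injective (fun p => (⟨p.1, p.2.2⟩ : {p : T × T // Commute p.1 p.2})) fun p q h =>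
    Subtype.ext (congrArg (fun z => z.1) h)

/-- `|T| < |C_T(α)| ^ 3` for every automorphism `α` of order two -/
def CubeBound (T : Type*) [Group T] : Prop :=
  ∀ α : MulAut T, orderOf α = 2 → Nat.card T < Nat.card {t : T // α t = t} ^ 3

theorem mul_self_of_order {α : MulAut T} (hα : orderOf α = 2) : α * α = 1 := by
  rw [← sq, ← hα, pow_orderOf_eq_one]

theorem lt_cube_of_tw [Finite T] {α : MulAut T} (hα : α * α = 1)
    (h : Nat.card (Tw α) ^ 3 < Nat.card T ^ 2) : Nat.card T < Nat.card {t : T // α t = t} ^ 3 := by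
  have h1 := card_le hα
  set c := Nat.card {t : T // α t = t}
  set i := Nat.card (Tw α)
  set n := Nat.card T
  have hn : 0 < n := Nat.card_pos
  have h2 : n ^ 3 ≤ c ^ 3 * i ^ 3 := by
    rw [← mul_pow]; exact Nat.pow_le_pow_left h1 3
  have hc : 0 < c ^ 3 := by
    rcases Nat.eq_zero_or_pos (c ^ 3) with h0 | h0
    · rw [h0, zero_mul] at h2
      exact absurd h2 (by have := Nat.pow_pos (n := 3) hn; omega)
    · exact h0
  have h3 : c ^ 3 * i ^ 3 < c ^ 3 * n ^ 2 := Nat.mul_lt_mul_of_pos_left h hc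
  have h4 : n * n ^ 2 < c ^ 3 * n ^ 2 := by
    calc n * n ^ 2 = n ^ 3 := by ring
      _ ≤ c ^ 3 * i ^ 3 := h2
      _ < c ^ 3 * n ^ 2 := h3
  exact Nat.lt_of_mul_lt_mul_right h4

theorem CubeBound.of_tw [Finite T] (h : ∀ α : MulAut T, orderOf α = 2 → Nat.card (Tw α) ^ 3 < Nat.card T ^ 2) :
    CubeBound T := fun α hα => lt_cube_of_tw (mul_self_of_order hα) (h α hα)

theorem tw_cube_lt_of_card [Finite T] {k : ℕ} (α : MulAut T) (h : Nat.card (Tw α) ^ 2 ≤ k * Nat.card T)
    (hk : k ^ 3 < Nat.card T) : Nat.card (Tw α) ^ 3 < Nat.card T ^ 2 := by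
  set i := Nat.card (Tw α)
  set n := Nat.card T
  have hn : 0 < n := Nat.card_pos
  have h1 : (i ^ 3) ^ 2 < (n ^ 2) ^ 2 := by
    calc (i ^ 3) ^ 2 = (i ^ 2) ^ 3 := by ring
      _ ≤ (k * n) ^ 3 := Nat.pow_le_pow_left h 3
      _ = k ^ 3 * n ^ 3 := by ring
      _ < n * n ^ 3 := Nat.mul_lt_mul_of_pos_right hk (by positivity)
      _ = (n ^ 2) ^ 2 := by ring
  exact lt_of_pow_lt_pow_left₀ 2 (Nat.zero_le _) h1

/-- `k(T) ^ 3 < |T|` is enough -/
theorem CubeBound.of_card_conjClasses [Finite T] {k : ℕ} (hk : Nat.card (ConjClasses T) ≤ k)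
    (h : k ^ 3 < Nat.card T) : CubeBound T :=
  CubeBound.of_tw fun α _ => tw_cube_lt_of_card α ((tw_sq_le α).trans (Nat.mul_le_mul_right _ hk)) h

/-- invariance under isomorphism -/
theorem CubeBound.congr {S T : Type*} [Group S] [Group T] (e : S ≃* T) (h : CubeBound S) : CubeBound T := by
  intro α hα
  let β : MulAut S := (MulAut.congr e).symm α
  have hβ : orderOf β = 2 := by
    rw [← hα]
    exact orderOf_injective (MulAut.congr e).symm.toMonoidHom (MulAut.congr e).symm.injective α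
  have h1 := h β hβ
  have h2 : Nat.card {t : S // β t = t} = Nat.card {t : T // α t = t} := by
    refine Nat.card_congr (e.toEquiv.subtypeEquiv fun a => ?_)
    change e.symm (α (e a)) = a ↔ α (e a) = e a
    rw [MulEquiv.symm_apply_eq]
  rw [h2, Nat.card_congr e.toEquiv] at h1
  exact h1

/-- the bound with real exponents -/
theorem real_bound [Finite T] {α : MulAut T} (h : Nat.card T < Nat.card {t : T // α t = t} ^ 3) :
    (Nat.card T : ℝ) ^ ((1 : ℝ) / 3) < Nat.card {t : T // α t = t} := by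
  have h1 : (Nat.card T : ℝ) < (Nat.card {t : T // α t = t} : ℝ) ^ (3 : ℕ) := by exact_mod_cast h
  have h2 : (Nat.card T : ℝ) ^ ((1 : ℝ) / 3) < ((Nat.card {t : T // α t = t} : ℝ) ^ (3 : ℕ)) ^ ((1 : ℝ) / 3) :=
    Real.rpow_lt_rpow (by positivity) h1 (by norm_num)
  have h3 : ((Nat.card {t : T // α t = t} : ℝ) ^ (3 : ℕ)) ^ ((1 : ℝ) / 3) = Nat.card {t : T // α t = t} := by
    rw [← Real.rpow_natCast, ← Real.rpow_mul (by positivity)]
    norm_num
  rwa [h3] at h2

end Cfsg.Agent.H383.Cube
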