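import Mathlib
import Cfsg.Agent.H383.Cube.Rgd

/-!
# Numbers for S5721 (helper383)

* `sB n` : the number of `w ∈ W(B_n)` with `w² = 1`;
* `NB a b n`, `ND a n` : the Poincaré polynomials of `B_n` (two parameters) and `D_n`;
* `HasPar p M q G` : `G` is generated by a root group datum of type `M` with `q i ≤ |X_{α_i}|`.
-/

set_option autoImplicit false

namespace Cfsg.Agent.H383.Cube

open CoxeterSystem Cfsg.Agent.ChevalleyStructure.CoxeterGeom Cfsg.Agent.Tits.Roots Cfsg.Agent.Nodes.BNOf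
  Cfsg.Agent.Nodes.Bruhat

/-- the number of elements of square one in the Weyl group of type `B_n` -/
def sB : ℕ → ℕ
  | 0 => 1
  | 1 => 2
  | (n + 2) => 2 * sB (n + 1) + 2 * (n + 1) * sB n

/-- the Poincaré polynomial of `W(B_n)`, `a` for the nodes `0, …, n - 2`, `b` for the last node -/
def NB (a b n : ℕ) : ℕ := ∏ m ∈ Finset.range n, ((∑ j ∈ Finset.range (m + 1), a ^ j) * (1 + a ^ m * b))

/-- the Poincaré polynomial of `W(D_n)` -/
def ND (a n : ℕ) : ℕ := ∏ m ∈ Finset.range (n - 1), ((∑ j ∈ Finset.range (m + 2), a ^ j) * (1 + a ^ (m + 1)))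

/-- `G` is generated by a root group datum of type `M` with `q i ≤ |X_{α_i}|` -/
def HasPar (p : ℕ) {l : ℕ} (M : CoxeterMatrix (Fin l)) (q : Fin l → ℕ) (G : Type*) [Group G] : Prop :=
  ∃ (A : Fin l → Fin l → ℤ) (h : IsCartan M A) (T : Subgroup G) (n : Fin l → G) (X : (Fin l → ℤ) → Subgroup G),
    Finite M.Group ∧ RGD M.toCoxeterSystem h p T n X ∧ GG M.toCoxeterSystem h T X = ⊤ ∧
      ∀ i, q i ≤ Nat.card ↥(X (sr i))

end Cfsg.Agent.H383.Cube
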