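import Mathlib
import Cfsg.Agent.H383.Cube.Num
import Cfsg.Agent.H461.CoxB
import Cfsg.Agent.H475.CoxD
import Cfsg.Agent.H475.CoxDTw

/-!
# The index of `B` in the classical families (helper383, S5721)

* `card_step` : `|Sup X (NW (w s_i))| = |Sup X (NW w)| |X_{α_i}|`;
* `index_B` : `|B| NB a b n ≤ |G|` for type `B_n`, `index_D` for type `D_n`;
* `cube_of_parB`, `cube_of_parD` : the criteria.
-/

set_option autoImplicit false
set_option linter.unusedSectionVars false

namespace Cfsg.Agent.H383.Cube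

open CoxeterSystem Cfsg.Agent.ChevalleyStructure.CoxeterGeom Cfsg.Agent.Tits.Roots Cfsg.Agent.Tits.Core
  Cfsg.Agent.Tits.Exchange Cfsg.Agent.Nodes.Reps Cfsg.Agent.Nodes.BNOf Cfsg.Agent.Nodes.StabComb
  Cfsg.Agent.Nodes.Bruhat Cfsg.Agent.Nodes.OppDec Cfsg.Agent.Nodes.LeviDec Cfsg.Agent.Nodes.NormalForm
  Cfsg.Agent.KFacts.RgdOpp Cfsg.Agent.KFacts.RgdAut Cfsg.Agent.KFacts.RgdDiag Cfsg.Agent.Nodes.CardSup
  Cfsg.Agent.Nodes.BNOf.RGD Cfsg.Agent.Nodes.Comb Cfsg.Agent.Nodes.Unique

section

variable {I W Y : Type*} [Fintype I] [DecidableEq I] [Group W] [Group Y] {M : CoxeterMatrix I}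
  {cs : CoxeterSystem M W} {A : I → I → ℤ} {h : IsCartan M A} {p : ℕ} {T : Subgroup Y} {n : I → Y}
  {X : (I → ℤ) → Subgroup Y} (R : RGD cs h p T n X)

variable (cs h) in
theorem finite_NW [Finite W] (w : W) : (NW cs h w).Finite := by
  have h1 : (Set.range fun z : W × I => rep cs h z.1 (sr z.2)).Finite := Set.finite_range _
  refine h1.subset ?_
  rintro x ⟨⟨v, i, e⟩, -, -⟩
  exact ⟨(v, i), e.symm⟩

include R

theorem card_one [Finite W] : Nat.card ↥(RGD.Sup X (NW cs h 1)) = 1 := by
  have h1 : NW cs h (1 : W) = ∅ := by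
    ext x
    simp only [Set.mem_empty_iff_false, iff_false]
    rintro ⟨hx, h0, h1⟩
    rw [map_one, Module.End.one_apply] at h1
    exact hx.not_pos_neg h0 h1
  rw [card_sup_NW R (1 : W) ∅ (by rw [h1]; simp), Finset.prod_empty]

theorem card_step [Finite W] (w : W) (i : I) (hl : cs.length (w * cs.simple i) = cs.length w + 1) :
    Nat.card ↥(RGD.Sup X (NW cs h (w * cs.simple i))) = Nat.card ↥(RGD.Sup X (NW cs h w)) * Nat.card ↥(X (sr i)) := by
  classical
  have hpos : 0 ≤ rep cs h w (sr i) := (lt_iff' cs h w i).1 (by omega)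
  obtain ⟨s, hs⟩ := (finite_NW cs h w).exists_finset_coe
  have hinv : ∀ x : I → ℤ, rep cs h (cs.simple i) (rep cs h (cs.simple i) x) = x := by
    intro x
    rw [← rep_mul_apply, simple_mul_simple_self, map_one, Module.End.one_apply]
  have hinj : Function.Injective (rep cs h (cs.simple i)) := fun x y e => by
    rw [← hinv x, e, hinv]
  have hmem : ∀ x ∈ s, x ∈ NW cs h w := fun x hx => by rw [← hs]; exact hx
  have hne : ∀ x ∈ s, x ≠ sr i := by
    rintro x hx rfl
    obtain ⟨h1, -, h3⟩ := hmem _ hx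
    exact (h1.act w).not_pos_neg hpos h3
  have hnot : sr i ∉ s.image (rep cs h (cs.simple i)) := by
    intro hx
    obtain ⟨y, hy, e⟩ := Finset.mem_image.1 hx
    have h1 : y = -sr i := by rw [← hinv y, e, rep_simple_sr]
    have h2 := (hmem y hy).2.1 i
    rw [h1, Pi.neg_apply, sr_self] at h2
    exact absurd h2 (by simp)
  have hset : ((insert (sr i) (s.image (rep cs h (cs.simple i))) : Finset (I → ℤ)) : Set (I → ℤ)) =
      NW cs h (w * cs.simple i) := by
    ext x
    rw [Finset.mem_coe, Finset.mem_insert, Finset.mem_image]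
    constructor
    · rintro (rfl | ⟨y, hy, rfl⟩)
      · refine ⟨isRoot_sr cs h i, sr_nonneg i, ?_⟩
        rw [rep_mul_apply, rep_simple_sr, map_neg]
        exact neg_nonpos.2 hpos
      · obtain ⟨h1, h2, h3⟩ := hmem y hy
        refine ⟨h1.act _, h1.simple_nonneg h2 i (hne y hy), ?_⟩
        rw [rep_mul_apply, hinv]
        exact h3
    · rintro ⟨h1, h2, h3⟩
      by_cases hx : x = sr i
      · exact Or.inl hx
      · right
        refine ⟨rep cs h (cs.simple i) x, ?_, hinv x⟩
        have : rep cs h (cs.simple i) x ∈ NW cs h w := by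
          refine ⟨h1.act _, h1.simple_nonneg h2 i hx, ?_⟩
          rw [rep_mul_apply] at h3
          exact h3
        rw [← hs] at this
        exact this
  rw [card_sup_NW R _ _ hset, card_sup_NW R w s hs, Finset.prod_insert hnot, Finset.prod_image fun x _ y _ e => hinj e,
    mul_comm]
  congr 1
  exact Finset.prod_congr rfl fun x hx => card_X_rep R _ (hmem x hx).1

/-- joined nodes have conjugate root groups -/
theorem card_X_three [Finite W] {i j : I} (hij : i ≠ j) (hM : M i j = 3) : Nat.card (X (sr i)) = Nat.card (X (sr j)) := by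
  have hA : A i j = -1 ∧ A j i = -1 := by
    rcases h.rel i j hij with h1 | h1 | h1 | h1
    · omega
    · exact h1.2
    · omega
    · omega
  -- `s_j s_i (α_j)`: `s_i α_j = α_j + α_i`, `s_j (α_i + α_j) = α_i`
  have h1 : rep cs h (cs.simple i) (sr j) = sr j + sr i := by
    rw [rep_simple_eq, sr, pairing_single, hA.1]
    simp [sr]
  have h2 : rep cs h (cs.simple j) (sr i) = sr i + sr j := by
    rw [rep_simple_eq, sr, pairing_single, hA.2]
    simp [sr]
  have h3 : rep cs h (cs.simple j) (rep cs h (cs.simple i) (sr j)) = sr i := by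
    rw [h1, map_add, h2, rep_simple_sr]
    abel
  have h4 := card_X_rep R (cs.simple j) ((isRoot_sr cs h j).act (cs.simple i))
  have h5 := card_X_rep R (cs.simple i) (isRoot_sr cs h j)
  rw [h3] at h4
  rw [h4, h5]

end

theorem NB_mono {a b a' b' : ℕ} (ha : a ≤ a') (hb : b ≤ b') (n : ℕ) : NB a b n ≤ NB a' b' n := by
  refine Finset.prod_le_prod' fun m _ => ?_
  gcongr

theorem ND_mono {a a' : ℕ} (ha : a ≤ a') (n : ℕ) : ND a n ≤ ND a' n := by
  refine Finset.prod_le_prod' fun m _ => ?_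
  gcongr

theorem B_apply_three {n : ℕ} {i : ℕ} (hi : i + 2 < n) :
    CoxeterMatrix.B n ⟨i, by omega⟩ ⟨i + 1, by omega⟩ = 3 := by
  unfold CoxeterMatrix.B
  simp only [Matrix.of_apply, Fin.mk.injEq]
  rw [if_neg (by omega), if_neg (by omega), if_pos (Or.inr trivial)]

section

variable {n : ℕ} {G : Type*} [Group G] {p : ℕ} {T : Subgroup G}

theorem index_B [Finite G] {A : Fin n → Fin n → ℤ} {h : IsCartan (CoxeterMatrix.B n) A} {nn : Fin n → G}
    {X : (Fin n → ℤ) → Subgroup G} [Finite (CoxeterMatrix.B n).Group]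
    (R : RGD (CoxeterMatrix.B n).toCoxeterSystem h p T nn X) (hG : GG (CoxeterMatrix.B n).toCoxeterSystem h T X = ⊤)
    {a b : ℕ} (hab : ∀ i : Fin n, (if (i : ℕ) + 1 < n then a else b) ≤ Nat.card ↥(X (sr i))) :
    Nat.card ↥(RGD.B (CoxeterMatrix.B n).toCoxeterSystem h T X) * NB a b n ≤ Nat.card G := by
  have : Fintype (CoxeterMatrix.B n).Group := Fintype.ofFinite _
  rcases Nat.eq_zero_or_pos n with hn | hn
  · subst hn
    rw [NB, Finset.range_zero, Finset.prod_empty, mul_one]
    exact Subgroup.card_le_card_group _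
  -- the exact orders
  obtain ⟨a', ha', haa⟩ : ∃ a', (∀ i : Fin n, (i : ℕ) + 1 < n → Nat.card ↥(X (sr i)) = a') ∧ a ≤ a' := by
    by_cases h1 : 1 < n
    · refine ⟨Nat.card ↥(X (sr ⟨0, hn⟩)), ?_, ?_⟩
      · have key : ∀ k (hk : k + 1 < n), Nat.card ↥(X (sr ⟨k, by omega⟩)) = Nat.card ↥(X (sr ⟨0, hn⟩)) := by
          intro k
          induction k with
          | zero => intro _; rfl
          | succ k ih =>
            intro hk
            rw [← ih (by omega)]
            exact (card_X_three R (by simp) (B_apply_three hk)).symm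
        exact fun i hi => key i hi
      · have := hab ⟨0, hn⟩
        rwa [if_pos (by simpa using h1)] at this
    · exact ⟨a, fun i hi => absurd hi (by omega), le_rfl⟩
  have hb0 : ¬ (((⟨n - 1, by omega⟩ : Fin n) : ℕ) + 1 < n) := by simp only; omega
  have hbb : b ≤ Nat.card ↥(X (sr (⟨n - 1, by omega⟩ : Fin n))) := by
    have := hab ⟨n - 1, by omega⟩
    rwa [if_neg hb0] at this
  rw [card_eq R hG, H461.CoxB.sum_B (CoxeterMatrix.B n).toCoxeterSystem a' (Nat.card ↥(X (sr (⟨n - 1, by omega⟩ : Fin n))))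
    _ (card_one R) fun w i hl => ?_]
  · exact Nat.mul_le_mul_left _ (NB_mono haa hbb n)
  · rw [card_step R w i hl]
    congr 1
    split_ifs with hi
    · exact ha' i hi
    · have : i = ⟨n - 1, by omega⟩ := Fin.ext (by have := i.2; simp only; omega)
      rw [this]

theorem cube_of_parB [Finite G] [Fact p.Prime] {a b : ℕ}
    (hG : HasPar p (CoxeterMatrix.B n) (fun i => if (i : ℕ) + 1 < n then a else b) G)
    (hlt : sB n ^ 3 * Nat.card G < NB a b n ^ 3) : CubeBound G := by
  obtain ⟨A, h, T, nn, X, hW, R, hGG, hX⟩ := hG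
  exact cube_of_rgd R hGG (fun σ hσ => H461.CoxB.card_tw_B _ σ hσ) (index_B R hGG hX) hlt

theorem card_eq_pow {I W : Type*} [Fintype I] [DecidableEq I] [Group W] [Finite W] {M : CoxeterMatrix I}
    {cs : CoxeterSystem M W} {A : I → I → ℤ} {h : IsCartan M A} {nn : I → G} {X : (I → ℤ) → Subgroup G}
    (R : RGD cs h p T nn X) {a : ℕ} (ha : ∀ i, Nat.card ↥(X (sr i)) = a) (w : W) :
    Nat.card ↥(RGD.Sup X (NW cs h w)) = a ^ cs.length w := by
  induction hn : cs.length w using Nat.strong_induction_on generalizing w with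
  | _ N ih =>
    by_cases hw1 : w = 1
    · subst hw1
      rw [card_one R, ← hn, cs.length_one, pow_zero]
    · obtain ⟨i, hi⟩ := cs.exists_rightDescent_of_ne_one hw1
      have hi' : cs.length (w * cs.simple i) + 1 = cs.length w := cs.isRightDescent_iff.1 hi
      have hww : w * cs.simple i * cs.simple i = w := by rw [mul_assoc, simple_mul_simple_self, mul_one]
      have h1 := card_step R (w * cs.simple i) i (by rw [hww]; omega)
      rw [hww, ih _ (by omega) (w * cs.simple i) rfl, ha] at h1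
      rw [h1, ← pow_succ]
      congr 1
      omega

theorem index_D [Finite G] {A : Fin (n + 3) → Fin (n + 3) → ℤ} {h : IsCartan (Nodes.TypeD.M (n + 1)) A}
    {nn : Fin (n + 3) → G} {X : (Fin (n + 3) → ℤ) → Subgroup G} [Finite (Nodes.TypeD.M (n + 1)).Group]
    (R : RGD (Nodes.TypeD.M (n + 1)).toCoxeterSystem h p T nn X)
    (hG : GG (Nodes.TypeD.M (n + 1)).toCoxeterSystem h T X = ⊤)
    {a : ℕ} (hab : ∀ i : Fin (n + 3), a ≤ Nat.card ↥(X (sr i))) :
    Nat.card ↥(RGD.B (Nodes.TypeD.M (n + 1)).toCoxeterSystem h T X) * ND a (n + 3) ≤ Nat.card G := by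
  have : Fintype (Nodes.TypeD.M (n + 1)).Group := Fintype.ofFinite _
  have hadj : ∀ i j : Fin (n + 3), Nodes.TypeD.Adj i j → Nat.card ↥(X (sr i)) = Nat.card ↥(X (sr j)) := by
    intro i j hij
    have hne : i ≠ j := by
      rintro rfl
      rcases hij with h1 | h1 <;> omega
    refine card_X_three R hne ?_
    rw [Nodes.TypeD.M_apply, if_neg hne, if_pos (Or.inl hij)]
  have key : ∀ k (hk : k < n + 2), Nat.card ↥(X (sr ⟨k, by omega⟩)) = Nat.card ↥(X (sr ⟨0, by omega⟩)) := by
    intro k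
    induction k with
    | zero => intro _; rfl
    | succ k ih =>
      intro hk
      rw [← ih (by omega)]
      exact (hadj _ _ (Or.inl ⟨by simpa using hk, rfl⟩)).symm
  have hall : ∀ i : Fin (n + 3), Nat.card ↥(X (sr i)) = Nat.card ↥(X (sr ⟨0, by omega⟩)) := by
    intro i
    rcases Nat.lt_or_ge (i : ℕ) (n + 2) with h1 | h1
    · exact key i h1
    · have h2 : i = ⟨n + 2, by omega⟩ := Fin.ext (by have := i.2; simp only; omega)
      rw [h2, ← key n (by omega)]
      exact (hadj _ _ (Or.inr ⟨rfl, rfl⟩)).symm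
  rw [card_eq R hG, Finset.sum_congr rfl fun w _ => card_eq_pow R hall w, H475.CoxD.sum_D]
  exact Nat.mul_le_mul_left _ (ND_mono (hab _) _)

theorem cube_of_parD [Finite G] [Fact p.Prime] {a : ℕ}
    (hG : HasPar p (Nodes.TypeD.M (n + 1)) (fun _ => a) G)
    (hlt : sB (n + 3) ^ 3 * Nat.card G < ND a (n + 3) ^ 3) : CubeBound G := by
  obtain ⟨A, h, T, nn, X, hW, R, hGG, hX⟩ := hG
  exact cube_of_rgd R hGG (fun σ hσ => H475.CoxD.card_tw_D _ σ hσ) (index_D R hGG hX) hlt

end

end Cfsg.Agent.H383.Cube
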