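import Mathlib
import Cfsg.Agent.H383.Cube.Fam
import Cfsg.Agent.H807.CubePar
import Cfsg.Agent.H807.CubeNum
import Cfsg.Agent.S0245
import Cfsg.Agent.S0246
import Cfsg.Agent.S0280
import Cfsg.Agent.S0292
import Cfsg.Agent.S0293
import Cfsg.Agent.S0294

/-!
# The bound `|T| < |C_T(α)| ^ 3` for the classical groups, general case (helper383, S5721)
-/

set_option autoImplicit false

namespace Cfsg.Agent.H383.Cube.Classical

open Cfsg

section

variable {F : Type*} [Field F] [Fintype F]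

theorem exists_char (F : Type*) [Field F] : ∃ p : ℕ, ∃ _ : CharP F p, p = p := by
  obtain ⟨p, hp⟩ := CharP.exists F
  exact ⟨p, hp, rfl⟩

theorem card_psp {q : ℕ} (hF : Fintype.card F = q) {m : ℕ} (hm : 1 ≤ m) :
    Nat.gcd 2 (q - 1) * Nat.card (PSp m F) = q ^ (m ^ 2) * ∏ i ∈ Finset.range m, (q ^ (2 * (i + 1)) - 1) := by
  have h1 := S0245.result (F := F) hF m
  have h2 := S0246.result (F := F) hF m hm
  have h3 := Subgroup.card_eq_card_quotient_mul_card_subgroup
    (Subgroup.center (Matrix.symplecticGroup (Fin m) F))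
  rw [h1, h2] at h3
  rw [h3, mul_comm]

theorem finite_psp (m : ℕ) : Finite (PSp m F) := by infer_instance

theorem cube_psp_of {q : ℕ} (hF : Fintype.card F = q) {m : ℕ} (hm : 2 ≤ m)
    (hlt : sB m ^ 3 * Nat.card (PSp m F) < NB q q m ^ 3) : CubeBound (PSp m F) := by
  obtain ⟨p, hp⟩ := CharP.exists F
  have : Fact p.Prime := ⟨CharP.char_is_prime F p⟩
  have h1 := H807.CubePar.par_PSp (F := F) hm (p := p)
  rw [Nat.card_eq_fintype_card, hF] at h1
  refine cube_of_parB (p := p) (a := q) (b := q) ?_ hlt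
  simpa using h1

theorem cube_psp {m : ℕ} (hm : 3 ≤ m) : CubeBound (PSp m F) := by
  set q := Fintype.card F with hq
  have hq2 : 2 ≤ q := Fintype.one_lt_card
  refine cube_psp_of hq.symm (by omega) (lt_of_le_of_lt ?_ (H807.CubeNum.num_C m q hm hq2))
  refine Nat.mul_le_mul_left _ ?_
  rw [← card_psp (F := F) hq.symm (by omega)]
  exact Nat.le_mul_of_pos_left _ (Nat.gcd_pos_of_pos_left _ (by norm_num))

theorem card_psp_two {q : ℕ} (hF : Fintype.card F = q) :
    Nat.gcd 2 (q - 1) * Nat.card (PSp 2 F) = q ^ 4 * ((q ^ 2 - 1) * (q ^ 4 - 1)) := by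
  rw [card_psp hF (by norm_num), Finset.prod_range_succ, Finset.prod_range_succ, Finset.prod_range_zero, one_mul]
  norm_num

theorem cube_psp_two_odd {q : ℕ} (hF : Fintype.card F = q) (hq : 7 ≤ q) (ho : Odd q) : CubeBound (PSp 2 F) := by
  refine cube_psp_of hF le_rfl ?_
  have h1 := H807.CubeNum.num_C2_odd q hq ho
  rw [← card_psp_two hF] at h1
  have h2 : Nat.gcd 2 (q - 1) = 2 := by
    obtain ⟨k, rfl⟩ := ho
    rw [Nat.add_sub_cancel]
    exact Nat.gcd_eq_left (dvd_mul_right 2 k)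
  rw [h2] at h1
  have h3 : 2 * (sB 2 ^ 3 * Nat.card (PSp 2 F)) < 2 * NB q q 2 ^ 3 := by
    calc 2 * (sB 2 ^ 3 * Nat.card (PSp 2 F)) = sB 2 ^ 3 * (2 * Nat.card (PSp 2 F)) := by ring
      _ < _ := h1
  exact Nat.lt_of_mul_lt_mul_left h3

theorem cube_psp_two_even {q : ℕ} (hF : Fintype.card F = q) (hq : 16 ≤ q) : CubeBound (PSp 2 F) := by
  refine cube_psp_of hF le_rfl (lt_of_le_of_lt ?_ (H807.CubeNum.num_C2_even q hq))
  refine Nat.mul_le_mul_left _ ?_
  rw [← card_psp_two hF]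
  exact Nat.le_mul_of_pos_left _ (Nat.gcd_pos_of_pos_left _ (by norm_num))

/-! ### Unitary groups -/

theorem prod_even (f : ℕ → ℕ) (g : ℕ → ℕ) (m : ℕ) :
    ∏ i ∈ Finset.range (2 * m), (if Even i then f i else g i) = ∏ i ∈ Finset.range m, (g (2 * i + 1) * f (2 * i)) := by
  induction m with
  | zero => simp
  | succ m ih =>
    rw [show 2 * (m + 1) = 2 * m + 1 + 1 by ring, Finset.prod_range_succ, Finset.prod_range_succ, ih,
      Finset.prod_range_succ, if_pos (by simp), if_neg (by simp [parity_simps])]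
    ring

theorem prod_odd (f : ℕ → ℕ) (g : ℕ → ℕ) (m : ℕ) :
    ∏ i ∈ Finset.range (2 * m + 1), (if Even i then f i else g i) =
      f 0 * ∏ i ∈ Finset.range m, (g (2 * i + 1) * f (2 * i + 2)) := by
  induction m with
  | zero => simp
  | succ m ih =>
    rw [show 2 * (m + 1) + 1 = 2 * m + 1 + 1 + 1 by ring, Finset.prod_range_succ, Finset.prod_range_succ, ih,
      Finset.prod_range_succ, if_neg (by simp), if_pos (by simp [parity_simps])]
    ring_nf

theorem two_le_of_sq {q : ℕ} (hF : Fintype.card F = q ^ 2) : 2 ≤ q := by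
  have h1 : 2 ≤ Fintype.card F := Fintype.one_lt_card
  rw [hF] at h1
  by_contra h2
  have : q = 0 ∨ q = 1 := by omega
  rcases this with rfl | rfl <;> simp at h1

theorem cube_psu_even_of {q m : ℕ} (hF : Fintype.card F = q ^ 2) (hm : 2 ≤ m)
    (hlt : sB m ^ 3 * Nat.card (PSU (2 * m) F q) < NB (q ^ 2) q m ^ 3) : CubeBound (PSU (2 * m) F q) := by
  obtain ⟨p, hp⟩ := CharP.exists F
  have : Fact p.Prime := ⟨CharP.char_is_prime F p⟩
  exact cube_of_parB (p := p) (H807.CubePar.par_PSU_even hF hm) hlt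

theorem cube_psu_odd_of {q m : ℕ} (hF : Fintype.card F = q ^ 2) (hm : 1 ≤ m)
    (hlt : sB m ^ 3 * Nat.card (PSU (2 * m + 1) F q) < NB (q ^ 2) (q ^ 3) m ^ 3) : CubeBound (PSU (2 * m + 1) F q) := by
  obtain ⟨p, hp⟩ := CharP.exists F
  have : Fact p.Prime := ⟨CharP.char_is_prime F p⟩
  exact cube_of_parB (p := p) (H807.CubePar.par_PSU_odd hF hm) hlt

theorem card_psu_even {q m : ℕ} (hF : Fintype.card F = q ^ 2) (hm : 1 ≤ m) :
    Nat.gcd (2 * m) (q + 1) * ((q + 1) * Nat.card (PSU (2 * m) F q)) =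
      q ^ (m * (2 * m - 1)) * ∏ i ∈ Finset.range m, ((q ^ (2 * (i + 1)) - 1) * (q ^ (2 * i + 1) + 1)) := by
  rw [S0280.result hF (2 * m) (by omega)]
  congr 1
  · congr 1
    rw [mul_assoc, Nat.mul_div_cancel_left _ (by norm_num)]
  · exact prod_even (fun i => q ^ (i + 1) + 1) (fun i => q ^ (i + 1) - 1) m

theorem card_psu_odd {q m : ℕ} (hF : Fintype.card F = q ^ 2) (hm : 1 ≤ m) :
    Nat.gcd (2 * m + 1) (q + 1) * Nat.card (PSU (2 * m + 1) F q) =
      q ^ (m * (2 * m + 1)) * ∏ i ∈ Finset.range m, ((q ^ (2 * (i + 1)) - 1) * (q ^ (2 * i + 3) + 1)) := by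
  have h1 := S0280.result hF (2 * m + 1) (by omega)
  rw [prod_odd (fun i => q ^ (i + 1) + 1) (fun i => q ^ (i + 1) - 1) m] at h1
  have h2 : (2 * m + 1) * (2 * m + 1 - 1) / 2 = m * (2 * m + 1) := by
    rw [Nat.add_sub_cancel]
    apply Nat.div_eq_of_eq_mul_right (by norm_num)
    ring
  rw [h2, zero_add, pow_one] at h1
  apply Nat.eq_of_mul_eq_mul_left (show 0 < q + 1 by omega)
  calc (q + 1) * (Nat.gcd (2 * m + 1) (q + 1) * Nat.card (PSU (2 * m + 1) F q)) =
        Nat.gcd (2 * m + 1) (q + 1) * ((q + 1) * Nat.card (PSU (2 * m + 1) F q)) := by ring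
    _ = _ := h1
    _ = _ := by ring_nf

theorem cube_psu_even {q m : ℕ} (hF : Fintype.card F = q ^ 2) (hm : 2 ≤ m)
    (h : m = 2 → q ≠ 2 ∧ q ≠ 3 ∧ q ≠ 4) : CubeBound (PSU (2 * m) F q) := by
  refine cube_psu_even_of hF hm ?_
  have hq : 2 ≤ q := two_le_of_sq hF
  have h1 := H807.CubeNum.num_Ueven m q hm hq h
  rw [← card_psu_even hF (by omega)] at h1
  have hg : 0 < Nat.gcd (2 * m) (q + 1) := Nat.gcd_pos_of_pos_left _ (by omega)
  have h2 : (q + 1) * (sB m ^ 3 * Nat.card (PSU (2 * m) F q)) < (q + 1) * NB (q ^ 2) q m ^ 3 := by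
    refine lt_of_le_of_lt ?_ h1
    calc (q + 1) * (sB m ^ 3 * Nat.card (PSU (2 * m) F q)) = sB m ^ 3 * ((q + 1) * Nat.card (PSU (2 * m) F q)) := by ring
      _ ≤ sB m ^ 3 * (Nat.gcd (2 * m) (q + 1) * ((q + 1) * Nat.card (PSU (2 * m) F q))) :=
        Nat.mul_le_mul_left _ (Nat.le_mul_of_pos_left _ hg)
  exact Nat.lt_of_mul_lt_mul_left h2

theorem cube_psu_odd {q m : ℕ} (hF : Fintype.card F = q ^ 2) (hm : 2 ≤ m) : CubeBound (PSU (2 * m + 1) F q) := by
  refine cube_psu_odd_of hF (by omega) (lt_of_le_of_lt ?_ (H807.CubeNum.num_Uodd m q hm (two_le_of_sq hF)))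
  refine Nat.mul_le_mul_left _ ?_
  rw [← card_psu_odd hF (by omega)]
  exact Nat.le_mul_of_pos_left _ (Nat.gcd_pos_of_pos_left _ (by omega))

theorem card_psu_three {q : ℕ} (hF : Fintype.card F = q ^ 2) :
    Nat.gcd 3 (q + 1) * Nat.card (PSU 3 F q) = q ^ 3 * ((q ^ 2 - 1) * (q ^ 3 + 1)) := by
  have h1 := card_psu_odd (m := 1) hF le_rfl
  simpa using h1

theorem NB_one (a b : ℕ) : NB a b 1 = 1 + b := by simp [NB]

theorem sB_one : sB 1 = 2 := rfl

theorem cube_psu_three {q : ℕ} (hF : Fintype.card F = q ^ 2) (hq : 8 ≤ q ∨ q = 5) : CubeBound (PSU 3 F q) := by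
  refine cube_psu_odd_of (m := 1) hF le_rfl ?_
  rw [NB_one, sB_one]
  rcases hq with hq | rfl
  · refine lt_of_le_of_lt ?_ (H807.CubeNum.num_U3 q hq)
    refine Nat.mul_le_mul_left _ ?_
    rw [← card_psu_three hF]
    exact Nat.le_mul_of_pos_left _ (Nat.gcd_pos_of_pos_left _ (by omega))
  · have h1 := card_psu_three hF
    norm_num at h1 ⊢
    omega

theorem cube_psu_four_three (hF : Fintype.card F = 3 ^ 2) : CubeBound (PSU 4 F 3) := by
  refine cube_psu_even_of (m := 2) (q := 3) hF le_rfl ?_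
  have h1 := card_psu_even (m := 2) (q := 3) hF (by norm_num)
  rw [Finset.prod_range_succ, Finset.prod_range_succ, Finset.prod_range_zero] at h1
  norm_num at h1
  have h2 : Nat.card (PSU 4 F 3) = 3265920 := by omega
  have h3 := H807.CubeNum.num_U43
  rw [← h2] at h3
  exact h3

/-! ### Orthogonal groups -/

theorem cube_po_odd {q m : ℕ} (hF : Fintype.card F = q) (ho : Odd q) (hm : 3 ≤ m) :
    CubeBound (POmega F (quadFormOdd m F)) := by
  obtain ⟨p, hp⟩ := CharP.exists F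
  have : Fact p.Prime := ⟨CharP.char_is_prime F p⟩
  have hfin : Finite (POmega F (quadFormOdd m F)) := by infer_instance
  have h1 := H807.CubePar.par_PO_odd' (F := F) (by rwa [Nat.card_eq_fintype_card, hF]) hm (p := p)
  rw [Nat.card_eq_fintype_card, hF] at h1
  refine cube_of_parB (p := p) (a := q) (b := q) (by simpa using h1) ?_
  have hq : 2 ≤ q := by rw [← hF]; exact Fintype.one_lt_card
  refine lt_of_le_of_lt (Nat.mul_le_mul_left _ ?_) (H807.CubeNum.num_C m q hm hq)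
  rw [← S0292.result hF ho m hm]
  omega

theorem cube_po_plus {q m : ℕ} (hF : Fintype.card F = q) (hm : 4 ≤ m) :
    CubeBound (POmega F (quadFormPlus m F)) := by
  obtain ⟨p, hp⟩ := CharP.exists F
  have : Fact p.Prime := ⟨CharP.char_is_prime F p⟩
  have hfin : Finite (POmega F (quadFormPlus m F)) := by infer_instance
  obtain ⟨n, rfl⟩ : ∃ n, m = n + 3 := ⟨m - 3, by omega⟩
  have h1 := H807.CubePar.par_PO_plus (F := F) n (p := p)
  rw [Nat.card_eq_fintype_card, hF] at h1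
  refine cube_of_parD (p := p) (a := q) h1 ?_
  have hq : 2 ≤ q := by rw [← hF]; exact Fintype.one_lt_card
  refine lt_of_le_of_lt (Nat.mul_le_mul_left _ ?_) (H807.CubeNum.num_D (n + 3) q hm hq)
  rw [← S0293.result hF (n + 3) hm]
  exact Nat.le_mul_of_pos_left _ (Nat.gcd_pos_of_pos_left _ (by omega))

theorem cube_po_minus {q m : ℕ} (hF : Fintype.card F = q) (hm : 4 ≤ m) {a b : F}
    (hab : ∀ z₁ z₂ : F, z₁ ^ 2 + a * z₁ * z₂ + b * z₂ ^ 2 = 0 → z₁ = 0 ∧ z₂ = 0) :
    CubeBound (POmega F (quadFormMinus (m - 1) F a b)) := by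
  obtain ⟨p, hp⟩ := CharP.exists F
  have : Fact p.Prime := ⟨CharP.char_is_prime F p⟩
  have hfin : Finite (POmega F (quadFormMinus (m - 1) F a b)) := by infer_instance
  obtain ⟨n, rfl⟩ : ∃ n, m = n + 1 := ⟨m - 1, by omega⟩
  rw [Nat.add_sub_cancel] at hfin ⊢
  have h1 := H807.CubePar.par_PO_minus (F := F) hab (m := n) (by omega) (p := p)
  rw [Nat.card_eq_fintype_card, hF] at h1
  refine cube_of_parB (p := p) (a := q) (b := q ^ 2) h1 ?_
  have hq : 2 ≤ q := by rw [← hF]; exact Fintype.one_lt_card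
  refine lt_of_le_of_lt (Nat.mul_le_mul_left _ ?_) (H807.CubeNum.num_2D n q (by omega) hq)
  have h2 := S0294.result hF (n + 1) hm a b hab
  rw [Nat.add_sub_cancel] at h2
  rw [mul_comm n (n + 1), ← h2]
  exact Nat.le_mul_of_pos_left _ (Nat.gcd_pos_of_pos_left _ (by omega))

end

end Cfsg.Agent.H383.Cube.Classical
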