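import Mathlib
import Cfsg.Agent.H383.Cube.Rgd

/-!
# Bounds for the Borel subgroup of a root group datum (helper383, S5721)

* `card_B_le` : `|B| ≤ |T| |U|`; `card_B_mul_U_le` : `|B| |U| ≤ |Y|`;
* `card_U_eq` : `|U| = u`, if `|Y| = u m`, `u` a power of `p`, `m` prime to `p`;
* `cube_crude` : the criterion with `N = |U|`; `cube_torus` : the criterion with `|B| ≤ t |U|`.
-/

set_option autoImplicit false
set_option linter.unusedSectionVars false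

namespace Cfsg.Agent.H383.Cube

open CoxeterSystem Cfsg.Agent.ChevalleyStructure.CoxeterGeom Cfsg.Agent.Tits.Roots Cfsg.Agent.Tits.Core
  Cfsg.Agent.Tits.Exchange Cfsg.Agent.Nodes.Reps Cfsg.Agent.Nodes.BNOf Cfsg.Agent.Nodes.StabComb
  Cfsg.Agent.Nodes.Bruhat Cfsg.Agent.Nodes.OppDec Cfsg.Agent.Nodes.LeviDec Cfsg.Agent.Nodes.NormalForm
  Cfsg.Agent.KFacts.RgdOpp Cfsg.Agent.KFacts.RgdAut Cfsg.Agent.KFacts.RgdDiag Cfsg.Agent.Nodes.CardSup
  Cfsg.Agent.Nodes.BNOf.RGD Cfsg.Agent.Nodes.Comb Cfsg.Agent.Nodes.Unique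

variable {I W Y : Type*} [Fintype I] [DecidableEq I] [Group W] [Group Y] {M : CoxeterMatrix I}
  {cs : CoxeterSystem M W} {A : I → I → ℤ} {h : IsCartan M A} {p : ℕ} {T : Subgroup Y} {n : I → Y}
  {X : (I → ℤ) → Subgroup Y} (R : RGD cs h p T n X)

include R

theorem card_B_le [Finite Y] :
    Nat.card ↥(RGD.B cs h T X) ≤ Nat.card T * Nat.card ↥(RGD.Sup X (RGD.Pos cs h)) := by
  rw [← Nat.card_prod]
  refine Nat.card_le_card_of_surjective (fun x : T × ↥(RGD.Sup X (RGD.Pos cs h)) =>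
    (⟨x.1 * x.2, mul_mem (T_le_B x.1.2) (U_le_B x.2.2)⟩ : ↥(RGD.B cs h T X))) ?_
  rintro ⟨b, hb⟩
  obtain ⟨t, ht, u, hu, e⟩ := R.mem_B.1 hb
  exact ⟨(⟨t, ht⟩, ⟨u, hu⟩), Subtype.ext e.symm⟩

theorem NW_w0 [Finite W] : NW cs h (w0 cs) = RGD.Pos cs h := by
  obtain ⟨k, hk⟩ := exists_rp cs R.nsys (w0 cs)
  ext x
  constructor
  · exact fun hx => ⟨hx.1, hx.2.1⟩
  · rintro ⟨hx, h0⟩
    refine ⟨hx, h0, ?_⟩
    by_contra hcon
    have h1 : 0 ≤ rep cs h (w0 cs) x := (hx.act (w0 cs)).pos_or_neg.resolve_right hcon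
    obtain ⟨⟨u, hu⟩, hu1⟩ := Subgroup.ne_bot_iff_exists_ne_one.1 (X_ne_bot R hx)
    apply hu1
    apply Subtype.ext
    show u = 1
    -- `k u k⁻¹ ∈ U ∩ U⁻`
    have h2 : k * u * k⁻¹ ∈ RGD.Sup X (RGD.Pos cs h) :=
      RGD.le_Sup (S := RGD.Pos cs h) ⟨hx.act _, h1⟩ (R.conj_mem hk hx hu)
    have h3 : k * u * k⁻¹ ∈ UN cs h X := by
      rw [← cj_U R hk]
      exact conj_mem_cj.2 (RGD.le_Sup (S := RGD.Pos cs h) ⟨hx, h0⟩ hu)
    have h4 : k * u * k⁻¹ = 1 := eq_one_of_mem_U_of_mem_BN R h2 (UN_le_BN h3)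
    have h5 : u = k⁻¹ * (k * u * k⁻¹) * k := by group
    rw [h5, h4]
    group

theorem card_B_mul_U_le [Finite W] [Finite Y] (hG : GG cs h T X = ⊤) :
    Nat.card ↥(RGD.B cs h T X) * Nat.card ↥(RGD.Sup X (RGD.Pos cs h)) ≤ Nat.card Y := by
  have : Fintype W := Fintype.ofFinite W
  rw [card_eq R hG]
  refine Nat.mul_le_mul_left _ ?_
  rw [← NW_w0 R]
  exact Finset.single_le_sum (f := fun w => Nat.card ↥(RGD.Sup X (NW cs h w))) (fun _ _ => Nat.zero_le _)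
    (Finset.mem_univ (w0 cs))

theorem card_U_eq [Finite W] [Finite Y] [Fact p.Prime] (hG : GG cs h T X = ⊤) {u m k : ℕ} (hu : u = p ^ k)
    (hm : p.Coprime m) (hY : Nat.card Y = u * m) : Nat.card ↥(RGD.Sup X (RGD.Pos cs h)) = u := by
  obtain ⟨P, hP⟩ := R.isPGroup_Upos.exists_le_sylow
  have hPU : (P : Subgroup Y) = RGD.Sup X (RGD.Pos cs h) :=
    eq_U_of_isPGroup R P.isPGroup' hP (by rw [hG]; exact le_top)
  have hp : p.Prime := Fact.out
  have hm0 : m ≠ 0 := by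
    rintro rfl
    have : 0 < Nat.card Y := Nat.card_pos
    omega
  rw [← hPU, P.card_eq_multiplicity, hY, hu]
  congr 1
  rw [Nat.factorization_mul (pow_ne_zero _ hp.ne_zero) hm0, Finsupp.add_apply, hp.factorization_pow,
    Finsupp.single_eq_same, Nat.factorization_eq_zero_of_not_dvd ((Nat.Prime.coprime_iff_not_dvd hp).1 hm), add_zero]

/-- the criterion with `N = |U|` -/
theorem cube_crude [Finite W] [Finite Y] [Fact p.Prime] (hG : GG cs h T X = ⊤) {s u m k : ℕ}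
    (hs : ∀ (σ : Equiv.Perm I) (hσ : ∀ i j, M (σ i) (σ j) = M i j), Nat.card {w : W // hat cs σ hσ w = w⁻¹} ≤ s)
    (hu : u = p ^ k) (hm : p.Coprime m) (hY : Nat.card Y = u * m) (hlt : s ^ 3 * Nat.card Y < u ^ 3) : CubeBound Y := by
  have h1 := card_U_eq R hG hu hm hY
  refine cube_of_rgd R hG hs ?_ hlt
  rw [← h1]
  exact card_B_mul_U_le R hG

/-- the criterion with `|B| ≤ t |U|` -/
theorem cube_torus [Finite W] [Finite Y] [Fact p.Prime] (hG : GG cs h T X = ⊤) {s u m k t N : ℕ}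
    (hs : ∀ (σ : Equiv.Perm I) (hσ : ∀ i j, M (σ i) (σ j) = M i j), Nat.card {w : W // hat cs σ hσ w = w⁻¹} ≤ s)
    (hu : u = p ^ k) (hm : p.Coprime m) (hY : Nat.card Y = u * m) (ht : Nat.card T ≤ t) (hN : t * u * N ≤ Nat.card Y)
    (hlt : s ^ 3 * Nat.card Y < N ^ 3) : CubeBound Y := by
  have h1 := card_U_eq R hG hu hm hY
  refine cube_of_rgd R hG hs ?_ hlt
  refine (Nat.mul_le_mul_right _ ?_).trans hN
  rw [← h1]
  exact (card_B_le R).trans (Nat.mul_le_mul_right _ ht)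

end Cfsg.Agent.H383.Cube
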