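import Mathlib
import Cfsg.Agent.H383.Cube.Rgd

/-!
# The refined count of twisted involutions (helper383, S5721)

`R : RGD cs h p T n X`, `T` abelian, `β = conj g * α` a frame automorphism; for `x ∈ Tw α` in the cell of `w`
(`x g⁻¹ ∈ B w B`) and a representative `k` of `w`
`|JJ α B x| |T| ≤ |DD α B x| |{t ∈ T : t (k β(t) k⁻¹) = 1}|`.
-/

set_option autoImplicit false
set_option linter.unusedSectionVars false

namespace Cfsg.Agent.H383.Cube.Ref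

open CoxeterSystem Cfsg.Agent.ChevalleyStructure.CoxeterGeom Cfsg.Agent.Tits.Roots Cfsg.Agent.Tits.Core
  Cfsg.Agent.Tits.Exchange Cfsg.Agent.Nodes.Reps Cfsg.Agent.Nodes.BNOf Cfsg.Agent.Nodes.StabComb
  Cfsg.Agent.Nodes.Bruhat Cfsg.Agent.Nodes.OppDec Cfsg.Agent.Nodes.LeviDec Cfsg.Agent.Nodes.NormalForm
  Cfsg.Agent.KFacts.RgdOpp Cfsg.Agent.KFacts.RgdAut Cfsg.Agent.KFacts.RgdDiag Cfsg.Agent.Nodes.CardSup
  Cfsg.Agent.Nodes.BNOf.RGD Cfsg.Agent.Nodes.Comb Cfsg.Agent.Nodes.Unique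
open scoped Pointwise

variable {I W Y : Type*} [Fintype I] [DecidableEq I] [Group W] [Group Y] {M : CoxeterMatrix I}
  {cs : CoxeterSystem M W} {A : I → I → ℤ} {h : IsCartan M A} {p : ℕ} {T : Subgroup Y} {n : I → Y}
  {X : (I → ℤ) → Subgroup Y} (R : RGD cs h p T n X)

/-- `b ∈ t U`, `t ∈ T` -/
def Pr (cs : CoxeterSystem M W) (h : IsCartan M A) (T : Subgroup Y) (X : (I → ℤ) → Subgroup Y) (b t : Y) : Prop :=
  t ∈ T ∧ t⁻¹ * b ∈ RGD.Sup X (RGD.Pos cs h)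

theorem Pr.mem_B {b t : Y} (hb : Pr cs h T X b t) : b ∈ RGD.B cs h T X := by
  have h1 : b = t * (t⁻¹ * b) := by group
  rw [h1]
  exact mul_mem (T_le_B hb.1) (U_le_B hb.2)

include R

theorem exists_pr {b : Y} (hb : b ∈ RGD.B cs h T X) : ∃ t, Pr cs h T X b t := by
  obtain ⟨t, ht, u, hu, rfl⟩ := R.mem_B.1 hb
  exact ⟨t, ht, by rwa [inv_mul_cancel_left]⟩

omit R in
theorem pr_of_T {t : Y} (ht : t ∈ T) : Pr cs h T X t t := ⟨ht, by rw [inv_mul_cancel]; exact one_mem _⟩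

omit R in
theorem pr_of_U {u : Y} (hu : u ∈ RGD.Sup X (RGD.Pos cs h)) : Pr cs h T X u 1 :=
  ⟨one_mem _, by rwa [inv_one, one_mul]⟩

theorem conj_U {t u : Y} (ht : t ∈ T) : t * u * t⁻¹ ∈ RGD.Sup X (RGD.Pos cs h) ↔ u ∈ RGD.Sup X (RGD.Pos cs h) :=
  ((Subgroup.mem_normalizer_iff.1 (R.B_le_normalizer_U (T_le_B ht))) u).symm

theorem Pr.mul {b t b' t' : Y} (hb : Pr cs h T X b t) (hb' : Pr cs h T X b' t') : Pr cs h T X (b * b') (t * t') := by
  refine ⟨mul_mem hb.1 hb'.1, ?_⟩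
  have h1 : (t * t')⁻¹ * (b * b') = (t'⁻¹ * (t⁻¹ * b) * t'⁻¹⁻¹) * (t'⁻¹ * b') := by group
  rw [h1]
  exact mul_mem ((conj_U R (inv_mem hb'.1)).2 hb.2) hb'.2

theorem Pr.inv {b t : Y} (hb : Pr cs h T X b t) : Pr cs h T X b⁻¹ t⁻¹ := by
  refine ⟨inv_mem hb.1, ?_⟩
  have h1 : t⁻¹⁻¹ * b⁻¹ = t * (t⁻¹ * b)⁻¹ * t⁻¹ := by group
  rw [h1]
  exact (conj_U R hb.1).2 (inv_mem hb.2)

theorem eq_one_of_T_U [Finite W] {t : Y} (ht : t ∈ T) (hu : t ∈ RGD.Sup X (RGD.Pos cs h)) : t = 1 := by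
  obtain ⟨k, hk⟩ := R.isPGroup_Upos ⟨t, hu⟩
  have h1 : t ^ p ^ k = 1 := congrArg Subtype.val hk
  have h2 : orderOf t ∣ p ^ k := orderOf_dvd_of_pow_eq_one h1
  have h3 : orderOf t ∣ Nat.card T := by
    have := orderOf_dvd_natCard (⟨t, ht⟩ : T)
    rwa [Subgroup.orderOf_mk] at this
  have h4 : (Nat.card T).Coprime (p ^ k) := Nat.Coprime.pow_right _ R.tcop
  have h5 : orderOf t = 1 := Nat.eq_one_of_dvd_coprimes h4 h3 h2
  exact orderOf_eq_one_iff.1 h5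

theorem Pr.eq_one [Finite W] {t : Y} (ht : Pr cs h T X 1 t) : t = 1 := by
  have h1 := ht.2
  rw [mul_one] at h1
  have h2 := eq_one_of_T_U R (inv_mem ht.1) h1
  rwa [inv_eq_one] at h2

theorem Pr.unique [Finite W] {b t t' : Y} (ht : Pr cs h T X b t) (ht' : Pr cs h T X b t') : t = t' := by
  have h1 := (ht.inv R).mul R ht'
  rw [inv_mul_cancel] at h1
  have h2 := h1.eq_one R
  rwa [inv_mul_eq_one] at h2

theorem Pr.pow {b t : Y} (hb : Pr cs h T X b t) (k : ℕ) : Pr cs h T X (b ^ k) (t ^ k) := by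
  induction k with
  | zero => rw [pow_zero, pow_zero]; exact pr_of_T (one_mem _)
  | succ k ih => rw [pow_succ, pow_succ]; exact ih.mul R hb

theorem mem_U_of_pow [Finite W] {z : Y} (hz : z ∈ RGD.B cs h T X) {k : ℕ} (hk : z ^ p ^ k = 1) :
    z ∈ RGD.Sup X (RGD.Pos cs h) := by
  obtain ⟨s, hs⟩ := exists_pr R hz
  have h1 := hs.pow R (p ^ k)
  rw [hk] at h1
  have h2 := h1.eq_one R
  have h3 : orderOf s ∣ p ^ k := orderOf_dvd_of_pow_eq_one h2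
  have h4 : orderOf s ∣ Nat.card T := by
    have := orderOf_dvd_natCard (⟨s, hs.1⟩ : T)
    rwa [Subgroup.orderOf_mk] at this
  have h5 : orderOf s = 1 := Nat.eq_one_of_dvd_coprimes (Nat.Coprime.pow_right _ R.tcop) h4 h3
  have h6 := orderOf_eq_one_iff.1 h5
  have h7 := hs.2
  rwa [h6, inv_one, one_mul] at h7

theorem Pr.conj_rp [Finite W] {d t k : Y} {w : W} (hd : Pr cs h T X d t) (hk : Rp cs R.nsys w k)
    (hB : k * d * k⁻¹ ∈ RGD.B cs h T X) : Pr cs h T X (k * d * k⁻¹) (k * t * k⁻¹) := by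
  have ht : k * t * k⁻¹ ∈ T := (Subgroup.mem_normalizer_iff.1 hk.mem_normalizer t).1 hd.1
  refine ⟨ht, ?_⟩
  have h1 : (k * t * k⁻¹)⁻¹ * (k * d * k⁻¹) = k * (t⁻¹ * d) * k⁻¹ := by group
  rw [h1]
  have h2 : k * (t⁻¹ * d) * k⁻¹ ∈ RGD.B cs h T X := by
    rw [← h1]
    exact mul_mem (inv_mem (T_le_B ht)) hB
  obtain ⟨m, hm⟩ := R.isPGroup_Upos ⟨t⁻¹ * d, hd.2⟩
  have h3 : (t⁻¹ * d) ^ p ^ m = 1 := congrArg Subtype.val hm
  refine mem_U_of_pow R h2 (k := m) ?_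
  rw [conj_pow, h3]
  group

omit R in
theorem Pr.map {β : MulAut Y} (hU : Fix β (RGD.Sup X (RGD.Pos cs h))) (hT : Fix β T) {b t : Y}
    (hb : Pr cs h T X b t) : Pr cs h T X (β b) (β t) := by
  refine ⟨(hT t).2 hb.1, ?_⟩
  rw [← map_inv, ← map_mul]
  exact (hU _).2 hb.2

theorem Pr.conj_B (hTc : ∀ s ∈ T, ∀ t ∈ T, s * t = t * s) {b c t : Y} (hc : Pr cs h T X c t)
    (hb : b ∈ RGD.B cs h T X) : Pr cs h T X (b * c * b⁻¹) t := by
  obtain ⟨s, hs⟩ := exists_pr R hb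
  have h1 := (hs.mul R hc).mul R (hs.inv R)
  have h2 : s * t * s⁻¹ = t := by rw [hTc s hs.1 t hc.1, mul_inv_cancel_right]
  rwa [h2] at h1

section

variable [Finite W] {α : MulAut Y} (hα : α * α = 1) {g : Y}

/-- the elements of `T` inverted by `t ↦ k β(t) k⁻¹` -/
def Tm (T : Subgroup Y) (β : MulAut Y) (k : Y) : Set Y := {t | t ∈ T ∧ t * (k * β t * k⁻¹) = 1}

include hα in
/-- the torus part of an element of `DD` -/
theorem pr_tau (hTc : ∀ s ∈ T, ∀ t ∈ T, s * t = t * s) (hU : Fix (MulAut.conj g * α) (RGD.Sup X (RGD.Pos cs h)))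
    (hT : Fix (MulAut.conj g * α) T) {x : Y} (hx : x ∈ Tw α) {w : W} {b₁ k b₂ : Y} (hb₁ : b₁ ∈ RGD.B cs h T X)
    (hk : Rp cs R.nsys w k) (hb₂ : b₂ ∈ RGD.B cs h T X) (e : x * g⁻¹ = b₁ * k * b₂) {c t : Y}
    (hc : c ∈ DD α (RGD.B cs h T X) x) (ht : Pr cs h T X c t) :
    Pr cs h T X (tau α x c) (k * (MulAut.conj g * α) t * k⁻¹) := by
  have hc' := (mem_DD hα hx).1 hc
  have h1 : tau α x c = b₁ * (k * (b₂ * (MulAut.conj g * α) c * b₂⁻¹) * k⁻¹) * b₁⁻¹ := by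
    have h2 : x = b₁ * k * b₂ * g := by rw [← e]; group
    rw [tau_apply, MulAut.mul_apply, MulAut.conj_apply]
    nth_rewrite 1 2 [h2]
    group
  have h3 : k * (b₂ * (MulAut.conj g * α) c * b₂⁻¹) * k⁻¹ ∈ RGD.B cs h T X := by
    have h4 : k * (b₂ * (MulAut.conj g * α) c * b₂⁻¹) * k⁻¹ = b₁⁻¹ * tau α x c * b₁ := by
      rw [h1]; group
    rw [h4]
    exact mul_mem (mul_mem (inv_mem hb₁) hc'.2) hb₁
  rw [h1]
  exact (((ht.map hU hT).conj_B R hTc hb₂).conj_rp R hk h3).conj_B R hTc hb₁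

include hα in
theorem card_JJ_mul_le [Finite Y] (hTc : ∀ s ∈ T, ∀ t ∈ T, s * t = t * s)
    (hU : Fix (MulAut.conj g * α) (RGD.Sup X (RGD.Pos cs h))) (hB : Fix (MulAut.conj g * α) (RGD.B cs h T X))
    (hT : Fix (MulAut.conj g * α) T) {x : Y} (hx : x ∈ Tw α) {w : W} (hw : Cell R.nsys cs h X w (x * g⁻¹)) {k : Y}
    (hk : Rp cs R.nsys w k) :
    Nat.card (JJ α (RGD.B cs h T X) x) * Nat.card T ≤
      Nat.card (DD α (RGD.B cs h T X) x) * Nat.card (Tm T (MulAut.conj g * α) k) := by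
  -- the cell with the given representative
  obtain ⟨b₁, hb₁, k', hk', b₂, hb₂, e⟩ := hw
  have hkk : k⁻¹ * k' ∈ T := hk.unique hk'
  have e' : x * g⁻¹ = b₁ * k * ((k⁻¹ * k') * b₂) := by rw [e]; group
  have hb₂' : (k⁻¹ * k') * b₂ ∈ RGD.B cs h T X := mul_mem (T_le_B hkk) hb₂
  generalize (k⁻¹ * k') * b₂ = b₃ at e' hb₂'
  set β := MulAut.conj g * α with hβ
  choose! π hπ using fun (b : Y) (hb : b ∈ RGD.B cs h T X) => exists_pr R hb
  have hJ : ∀ c ∈ JJ α (RGD.B cs h T X) x, π c ∈ Tm T β k := by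
    intro c hc
    have hcB := ((mem_DD hα hx).1 hc.1).1
    have h1 := pr_tau R hα hTc hU hT hx hb₁ hk hb₂' e' hc.1 (hπ c hcB)
    have h2 := (hπ c hcB).mul R h1
    rw [hc.2] at h2
    exact ⟨(hπ c hcB).1, h2.eq_one R⟩
  have hD : ∀ c ∈ DD α (RGD.B cs h T X) x, ∀ t ∈ T, c * (b₁ * t * b₁⁻¹) ∈ DD α (RGD.B cs h T X) x := by
    intro c hc t ht
    refine mul_mem hc (Subgroup.mem_inf.2 ⟨mul_mem (mul_mem hb₁ (T_le_B ht)) (inv_mem hb₁), ?_⟩)
    have h1 : b₃⁻¹ * (k⁻¹ * t * k) * b₃ ∈ RGD.B cs h T X := by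
      have h2 : k⁻¹ * t * k ∈ T := by
        have := (Subgroup.mem_normalizer_iff.1 hk.inv.mem_normalizer t).1 ht
        rwa [inv_inv] at this
      exact mul_mem (mul_mem (inv_mem hb₂') (T_le_B h2)) hb₂'
    refine ⟨β⁻¹ (b₃⁻¹ * (k⁻¹ * t * k) * b₃), (hB.inv _).2 h1, ?_⟩
    rw [MulEquiv.coe_toMonoidHom, tau_apply]
    have h2 : α (β⁻¹ (b₃⁻¹ * (k⁻¹ * t * k) * b₃)) = g⁻¹ * (b₃⁻¹ * (k⁻¹ * t * k) * b₃) * g := by
      have h3 : β (β⁻¹ (b₃⁻¹ * (k⁻¹ * t * k) * b₃)) = b₃⁻¹ * (k⁻¹ * t * k) * b₃ := MulAut.apply_inv_self _ _ _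
      rw [hβ, MulAut.mul_apply, MulAut.conj_apply] at h3
      have h4 : ∀ z v : Y, g * z * g⁻¹ = v → z = g⁻¹ * v * g := by
        intro z v e
        rw [← e]; group
      exact h4 _ _ h3
    have h5 : x = b₁ * k * b₃ * g := by rw [← e']; group
    rw [h2]
    nth_rewrite 1 2 [h5]
    group
  rw [← Nat.card_prod, ← Nat.card_prod]
  refine Nat.card_le_card_of_injective (fun z : JJ α (RGD.B cs h T X) x × T =>
    ((⟨z.1 * (b₁ * ((π z.1)⁻¹ * z.2) * b₁⁻¹), hD z.1 z.1.2.1 _ (mul_mem (inv_mem (hJ z.1 z.1.2).1) z.2.2)⟩,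
      ⟨π z.1, hJ z.1 z.1.2⟩) : DD α (RGD.B cs h T X) x × Tm T β k)) ?_
  rintro ⟨⟨c, hc⟩, ⟨t, ht⟩⟩ ⟨⟨c', hc'⟩, ⟨t', ht'⟩⟩ e0
  have e1 : c * (b₁ * ((π c)⁻¹ * t) * b₁⁻¹) = c' * (b₁ * ((π c')⁻¹ * t') * b₁⁻¹) :=
    congrArg (fun z => (z.1 : Y)) e0
  have e2 : π c = π c' := congrArg (fun z => (z.2 : Y)) e0
  have hcB := ((mem_DD hα hx).1 hc.1).1
  have hcB' := ((mem_DD hα hx).1 hc'.1).1
  have h1 : ∀ c t : Y, c ∈ RGD.B cs h T X → t ∈ T → Pr cs h T X (c * (b₁ * ((π c)⁻¹ * t) * b₁⁻¹)) t := by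
    intro c t hc ht
    have h2 := (hπ c hc).mul R ((pr_of_T (cs := cs) (h := h) (X := X) (mul_mem (inv_mem (hπ c hc).1) ht)).conj_B R hTc hb₁)
    rwa [mul_inv_cancel_left] at h2
  have h3 := h1 c t hcB ht
  have h4 := h1 c' t' hcB' ht'
  rw [← e1] at h4
  have h5 : t = t' := h3.unique R h4
  subst h5
  rw [← e2] at e1
  have h6 : c = c' := mul_right_cancel e1
  subst h6
  rfl

/-- `Tm` as a subgroup of `T` -/
def TmS (hTc : ∀ s ∈ T, ∀ t ∈ T, s * t = t * s) {β : MulAut Y} (hT : Fix β T) {k : Y}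
    (hk : k ∈ Subgroup.normalizer (T : Set Y)) : Subgroup T where
  carrier := {t | (t : Y) * (k * β t * k⁻¹) = 1}
  mul_mem' := by
    intro a b ha hb
    change (a : Y) * (k * β a * k⁻¹) = 1 at ha
    change (b : Y) * (k * β b * k⁻¹) = 1 at hb
    change (a : Y) * b * (k * β (a * b) * k⁻¹) = 1
    have h1 : k * β a * k⁻¹ ∈ T := (Subgroup.mem_normalizer_iff.1 hk _).1 ((hT _).2 a.2)
    have h2 : k * β (a * b) * k⁻¹ = (k * β a * k⁻¹) * (k * β b * k⁻¹) := by rw [map_mul]; group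
    rw [h2]
    calc (a : Y) * b * ((k * β a * k⁻¹) * (k * β b * k⁻¹)) = a * (b * (k * β a * k⁻¹)) * (k * β b * k⁻¹) := by group
      _ = a * ((k * β a * k⁻¹) * b) * (k * β b * k⁻¹) := by rw [hTc b b.2 _ h1]
      _ = (a * (k * β a * k⁻¹)) * (b * (k * β b * k⁻¹)) := by group
      _ = 1 := by rw [ha, hb, one_mul]
  one_mem' := by
    change (1 : Y) * (k * β 1 * k⁻¹) = 1
    rw [map_one]; group
  inv_mem' := by
    intro a ha
    change (a : Y) * (k * β a * k⁻¹) = 1 at ha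
    change (a : Y)⁻¹ * (k * β (a : Y)⁻¹ * k⁻¹) = 1
    have h2 : k * β (a : Y)⁻¹ * k⁻¹ = (k * β a * k⁻¹)⁻¹ := by rw [map_inv]; group
    rw [h2, ← mul_inv_rev, inv_eq_one]
    have h1 : (a : Y)⁻¹ = k * β a * k⁻¹ := inv_eq_of_mul_eq_one_right ha
    rw [← h1, inv_mul_cancel]

omit R in
theorem card_Tm [Finite Y] (hTc : ∀ s ∈ T, ∀ t ∈ T, s * t = t * s) {β : MulAut Y} (hT : Fix β T) {k : Y}
    (hk : k ∈ Subgroup.normalizer (T : Set Y)) : Nat.card (Tm T β k) = Nat.card (TmS hTc hT hk) :=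
  Nat.card_congr
    { toFun := fun c => ⟨⟨c.1, c.2.1⟩, c.2.2⟩
      invFun := fun c => ⟨c.1, c.1.2, c.2⟩
      left_inv := fun _ => rfl
      right_inv := fun _ => rfl }

omit R in
theorem card_Tm_le [Finite Y] (hTc : ∀ s ∈ T, ∀ t ∈ T, s * t = t * s) {β : MulAut Y} (hT : Fix β T) {k : Y}
    (hk : k ∈ Subgroup.normalizer (T : Set Y)) {l : ℕ} (hl : ∀ d, d ∣ Nat.card T → d ≠ 1 → l ≤ d)
    (hne : ∃ t ∈ T, t * (k * β t * k⁻¹) ≠ 1) : Nat.card (Tm T β k) * l ≤ Nat.card T := by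
  rw [card_Tm hTc hT hk, ← (TmS hTc hT hk).card_mul_index]
  apply Nat.mul_le_mul_left
  apply hl _ (Subgroup.index_dvd_card _)
  intro h1
  rw [Subgroup.index_eq_one] at h1
  obtain ⟨t, ht, hne⟩ := hne
  apply hne
  have : (⟨t, ht⟩ : T) ∈ TmS hTc hT hk := by rw [h1]; exact Subgroup.mem_top _
  exact this

end

omit R in
theorem card_Tm_le_T [Finite Y] (β : MulAut Y) (k : Y) : Nat.card (Tm T β k) ≤ Nat.card T :=
  Nat.card_le_card_of_injective (fun c : Tm T β k => (⟨c.1, c.2.1⟩ : T)) fun _ _ e =>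
    Subtype.ext (congrArg (fun z : T => (z : Y)) e)

/-- **The refined count**: if a central involution `v` of `W` does not centralise `T` -/
theorem card_tw_le_ref [Finite W] [Finite Y] [Fact p.Prime] (hG : GG cs h T X = ⊤)
    (hTc : ∀ s ∈ T, ∀ t ∈ T, s * t = t * s) {α : MulAut Y} (hα : α * α = 1) {v : W} {kv : Y}
    (hv : Rp cs R.nsys v kv) (hv2 : v * v = 1) (hvc : ∀ w, w * v = v * w)
    (hvσ : ∀ (σ : Equiv.Perm I) (hσ : ∀ i j, M (σ i) (σ j) = M i j), hat cs σ hσ v = v) (hne : ∃ t ∈ T, kv * t * kv⁻¹ ≠ t)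
    {l : ℕ} (hl : ∀ d, d ∣ Nat.card T → d ≠ 1 → l ≤ d) (hl0 : 0 < l) :
    ∃ (σ : Equiv.Perm I) (hσ : ∀ i j, M (σ i) (σ j) = M i j),
      2 * l * Nat.card (Tw α) ≤ Nat.card ↥(RGD.B cs h T X) * (Nat.card {w : W // hat cs σ hσ w = w⁻¹} * (l + 1)) := by
  classical
  obtain ⟨g, hU, hB, -, σ, D⟩ := exists_frame_any R hG α
  have hσ : ∀ i j, M (σ i) (σ j) = M i j := D.matrix R
  refine ⟨σ, hσ, ?_⟩
  have : Fintype W := Fintype.ofFinite W
  have hcell : ∀ x : Y, ∃ w, Cell R.nsys cs h X w (x * g⁻¹) := fun x =>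
    (mem_GG R).1 (by rw [hG]; exact Subgroup.mem_top _)
  choose δ hδ using hcell
  choose k hk using fun w : W => exists_rp cs R.nsys w
  set β := MulAut.conj g * α with hβ
  set S := Finset.univ.filter fun w : W => hat cs σ hσ w = w⁻¹ with hS
  let r : W → ℚ := fun w => (Nat.card (Tm T β (k w)) : ℚ) / Nat.card T
  have hT0 : 0 < (Nat.card T : ℚ) := by exact_mod_cast Nat.card_pos
  have hTT : Fix β T := D.tor
  have h1 := card_tw_le_sum hα (RGD.B cs h T X) δ S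
    (fun x hx => Finset.mem_filter.2 ⟨Finset.mem_univ _, cell_of_tw R hG hα hU hB D hσ hx (hδ x)⟩) ?_ r
    (fun w _ => by positivity) ?_
  · -- the estimate of the sum
    have hr1 : ∀ w, r w ≤ 1 := by
      intro w
      rw [div_le_one hT0]
      exact_mod_cast card_Tm_le_T β (k w)
    have hrl : ∀ w, (∃ t ∈ T, t * (k w * β t * (k w)⁻¹) ≠ 1) → r w ≤ 1 / l := by
      intro w hw
      rw [div_le_div_iff₀ hT0 (by exact_mod_cast hl0), one_mul]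
      exact_mod_cast card_Tm_le hTc hTT (hk w).mem_normalizer hl hw
    have hpair : ∀ w, r w + r (w * v) ≤ 1 + 1 / l := by
      intro w
      by_cases h2 : ∃ t ∈ T, t * (k w * β t * (k w)⁻¹) ≠ 1
      · have := hrl w h2
        have := hr1 (w * v)
        linarith
      · have h3 : ∃ t ∈ T, t * (k (w * v) * β t * (k (w * v))⁻¹) ≠ 1 := by
          by_contra h3
          push Not at h2 h3
          obtain ⟨t, ht, hne⟩ := hne
          apply hne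
          have ht' : β⁻¹ t ∈ T := (hTT.inv t).2 ht
          have e1 := h2 _ ht'
          have e2 := h3 _ ht'
          rw [MulAut.apply_inv_self] at e1 e2
          have e3 : k w * t * (k w)⁻¹ = k (w * v) * t * (k (w * v))⁻¹ := mul_left_cancel (e1.trans e2.symm)
          have hs : (k w * kv)⁻¹ * k (w * v) ∈ T := ((hk w).mul hv).unique (hk (w * v))
          have e4 : k (w * v) = k w * kv * ((k w * kv)⁻¹ * k (w * v)) := by group
          generalize (k w * kv)⁻¹ * k (w * v) = s at hs e4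
          rw [e4] at e3
          have e5 : k w * kv * s * t * (k w * kv * s)⁻¹ = k w * (kv * (s * t * s⁻¹) * kv⁻¹) * (k w)⁻¹ := by group
          rw [e5, hTc s hs t ht, mul_inv_cancel_right] at e3
          exact (mul_left_cancel (mul_right_cancel e3)).symm
        have := hrl _ h3
        have := hr1 w
        linarith
    have hSv : ∀ w, w ∈ S ↔ w * v ∈ S := by
      intro w
      rw [hS, Finset.mem_filter, Finset.mem_filter]
      have hvi : v⁻¹ = v := inv_eq_of_mul_eq_one_right hv2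
      have hvc' : w⁻¹ * v = v * w⁻¹ := hvc w⁻¹
      rw [map_mul, hvσ, mul_inv_rev, hvi, ← hvc', mul_left_inj]
      simp
    have hsum : ∑ w ∈ S, r (w * v) = ∑ w ∈ S, r w :=
      Finset.sum_equiv (Equiv.mulRight v) (fun w => by rw [Equiv.coe_mulRight]; exact hSv w)
        (fun w _ => by rw [Equiv.coe_mulRight])
    have h2 : 2 * ∑ w ∈ S, r w ≤ S.card * (1 + 1 / l : ℚ) := by
      calc 2 * ∑ w ∈ S, r w = ∑ w ∈ S, (r w + r (w * v)) := by rw [Finset.sum_add_distrib, hsum]; ring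
        _ ≤ ∑ _w ∈ S, (1 + 1 / l : ℚ) := Finset.sum_le_sum fun w _ => hpair w
        _ = _ := by rw [Finset.sum_const, nsmul_eq_mul]
    have hScard : Nat.card {w : W // hat cs σ hσ w = w⁻¹} = S.card := by
      rw [Nat.card_eq_fintype_card, Fintype.card_subtype]
    rw [hScard]
    have hlq : (0 : ℚ) < l := by exact_mod_cast hl0
    have h3 : (2 * l * Nat.card (Tw α) : ℚ) ≤ Nat.card ↥(RGD.B cs h T X) * (S.card * (l + 1)) := by
      calc (2 * l * Nat.card (Tw α) : ℚ) ≤ 2 * l * (Nat.card ↥(RGD.B cs h T X) * ∑ w ∈ S, r w) := by gcongr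
        _ = Nat.card ↥(RGD.B cs h T X) * (l * (2 * ∑ w ∈ S, r w)) := by ring
        _ ≤ Nat.card ↥(RGD.B cs h T X) * (l * (S.card * (1 + 1 / l : ℚ))) := by gcongr
        _ = Nat.card ↥(RGD.B cs h T X) * (S.card * (l + 1)) := by
            congr 1
            field_simp
    exact_mod_cast h3
  · intro x _ y _ hxy
    obtain ⟨b₁, hb₁, k, hk, b₂, hb₂, e⟩ := hδ x
    obtain ⟨c₁, hc₁, l, hl, c₂, hc₂, e'⟩ := hδ y
    rw [← hxy] at hl
    have ht : k⁻¹ * l ∈ T := by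
      have := hk.inv.mul hl
      rw [inv_mul_cancel] at this
      exact this.mem_of_one
    have hd : b₂⁻¹ * (k⁻¹ * l) * c₂ ∈ RGD.B cs h T X :=
      mul_mem (mul_mem (inv_mem hb₂) (RGD.T_le_B ht)) hc₂
    have hdβ := (hB.inv (b₂⁻¹ * (k⁻¹ * l) * c₂)).2 hd
    refine ⟨c₁ * b₁⁻¹, mul_mem hc₁ (inv_mem hb₁), _, hdβ, ?_⟩
    have h2 : α ((MulAut.conj g * α)⁻¹ (b₂⁻¹ * (k⁻¹ * l) * c₂)) = g⁻¹ * (b₂⁻¹ * (k⁻¹ * l) * c₂) * g := by
      have h3 : (MulAut.conj g * α) ((MulAut.conj g * α)⁻¹ (b₂⁻¹ * (k⁻¹ * l) * c₂)) = b₂⁻¹ * (k⁻¹ * l) * c₂ :=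
        MulAut.apply_inv_self _ _ _
      rw [MulAut.mul_apply, MulAut.conj_apply] at h3
      have h4 : ∀ z v : Y, g * z * g⁻¹ = v → z = g⁻¹ * v * g := by
        intro z v e
        rw [← e]; group
      exact h4 _ _ h3
    rw [h2]
    have h4 : x = b₁ * k * b₂ * g := by rw [← e]; group
    have h5 : y = c₁ * l * c₂ * g := by rw [← e']; group
    rw [h4, h5]
    group
  · intro x hx
    have h2 := card_JJ_mul_le R hα hTc hU hB hTT hx (hδ x) (hk (δ x))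
    have h3 : (Nat.card (JJ α (RGD.B cs h T X) x) * Nat.card T : ℚ) ≤
      Nat.card (DD α (RGD.B cs h T X) x) * Nat.card (Tm T β (k (δ x))) := by exact_mod_cast h2
    show _ ≤ (Nat.card (Tm T β (k (δ x))) : ℚ) / Nat.card T * _
    rw [div_mul_eq_mul_div, le_div_iff₀ hT0]
    linarith

end Cfsg.Agent.H383.Cube.Ref
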