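import Mathlib
import Cfsg.Agent.H383.Cube.Ref

/-!
# Twisted involutions in `B` for odd `p` (helper383, S5721)

* `card_tw_mul_le` : an involutory automorphism of a nonabelian `p`-group, `p` odd, inverts at most `|U| / p` elements;
* `card_tw_ext` : the same bound for extensions;
* `card_tw_le_odd` : `p |Tw α| ≤ |B| (p (s - 1) + 1)` for groups with root group data and nonabelian `U`.
-/

set_option autoImplicit false
set_option linter.unusedSectionVars false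

namespace Cfsg.Agent.H383.Cube.Odd

section

variable {U : Type*} [Group U]

theorem sq_inj [Finite U] {p : ℕ} (hp : p.Prime) (hp2 : p ≠ 2) (hU : IsPGroup p U) {a b : U} (hab : a * a = b * b) : a = b := by
  have : Fact p.Prime := ⟨hp⟩
  have hc : (Nat.card U).Coprime 2 := by
    obtain ⟨k, hk⟩ := (IsPGroup.iff_card (p := p) (G := U)).1 hU
    rw [hk]
    apply Nat.Coprime.pow_left
    exact (Nat.coprime_primes hp Nat.prime_two).2 hp2
  have h1 := (powCoprime hc).injective (a₁ := a) (a₂ := b) (by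
    rw [powCoprime_apply, powCoprime_apply, sq, sq, hab])
  exact h1

/-- the elements inverted and the elements fixed -/
theorem card_tw_mul_fix_le [Finite U] {p : ℕ} (hp : p.Prime) (hp2 : p ≠ 2) (hU : IsPGroup p U) (β : MulAut U) :
    Nat.card (Tw β) * Nat.card (fix β) ≤ Nat.card U := by
  rw [← Nat.card_prod]
  refine Nat.card_le_card_of_injective (fun z : Tw β × fix β => (z.1 : U) * z.2) ?_
  rintro ⟨⟨x, hx⟩, ⟨c, hc⟩⟩ ⟨⟨y, hy⟩, ⟨d, hd⟩⟩ e
  have e1 : x * c = y * d := e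
  have e2 : x⁻¹ * c = y⁻¹ * d := by
    have := congrArg β e1
    rwa [map_mul, map_mul, apply_eq_inv hx, apply_eq_inv hy, mem_fix.1 hc, mem_fix.1 hd] at this
  have e3 : x * x = y * y := by
    calc x * x = (x * c) * (x⁻¹ * c)⁻¹ := by group
      _ = (y * d) * (y⁻¹ * d)⁻¹ := by rw [e1, e2]
      _ = y * y := by group
  have e4 := sq_inj hp hp2 hU e3
  subst e4
  have e5 : c = d := mul_left_cancel e1
  subst e5
  rfl

theorem card_tw_mul_le [Finite U] {p : ℕ} (hp : p.Prime) (hp2 : p ≠ 2) (hU : IsPGroup p U)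
    (hne : ∃ a b : U, a * b ≠ b * a) {β : MulAut U} (hβ : β * β = 1) : Nat.card (Tw β) * p ≤ Nat.card U := by
  refine le_trans (Nat.mul_le_mul_left _ ?_) (card_tw_mul_fix_le hp hp2 hU β)
  have hF : IsPGroup p (fix β) := hU.to_subgroup _
  have : Fact p.Prime := ⟨hp⟩
  obtain ⟨k, hk⟩ := (IsPGroup.iff_card (p := p)).1 hF
  rcases Nat.eq_zero_or_pos k with h0 | h0
  · exfalso
    rw [h0, pow_zero] at hk
    have h1 := card_le hβ
    rw [← card_fix, hk, one_mul] at h1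
    have h2 : Tw β = Set.univ := by
      apply Set.eq_of_subset_of_ncard_le (Set.subset_univ _)
      rw [Set.ncard_univ]
      exact h1
    obtain ⟨a, b, hab⟩ := hne
    apply hab
    have h3 : ∀ x : U, β x = x⁻¹ := fun x => apply_eq_inv (by rw [h2]; trivial)
    have h4 := map_mul β a⁻¹ b⁻¹
    rw [h3, h3, h3, inv_inv, inv_inv, mul_inv_rev, inv_inv, inv_inv] at h4
    exact h4.symm
  · rw [hk]
    exact Nat.le_self_pow (by omega) p

end

/-- extensions -/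
theorem card_tw_ext {G : Type*} [Group G] [Finite G] {N : Subgroup G} (hNn : N.Normal) {τ : MulAut G} (hτ : τ * τ = 1)
    (hτN : ∀ x, τ x ∈ N ↔ x ∈ N) {p : ℕ} (hN : ∀ β : MulAut N, β * β = 1 → Nat.card (Tw β) * p ≤ Nat.card N) :
    Nat.card (Tw τ) * p ≤ Nat.card G := by
  classical
  have : Fintype (Tw τ) := Fintype.ofFinite _
  have : Fintype (G ⧸ N) := Fintype.ofFinite _
  have h0 : Nat.card (Tw τ) = ∑ q : G ⧸ N, (Finset.univ.filter fun x : Tw τ => (QuotientGroup.mk (x : G) : G ⧸ N) = q).card := by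
    rw [Nat.card_eq_fintype_card, ← Finset.card_univ]
    exact Finset.card_eq_sum_card_fiberwise fun x _ => Finset.mem_coe.2 (Finset.mem_univ _)
  have h1 : ∀ q : G ⧸ N, (Finset.univ.filter fun x : Tw τ => (QuotientGroup.mk (x : G) : G ⧸ N) = q).card * p ≤ Nat.card N := by
    intro q
    rcases Finset.eq_empty_or_nonempty (Finset.univ.filter fun x : Tw τ => (QuotientGroup.mk (x : G) : G ⧸ N) = q) with he | ⟨c, hc⟩
    · rw [he, Finset.card_empty, zero_mul]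
      exact Nat.zero_le _
    · have hcq := (Finset.mem_filter.1 hc).2
      have hcτ : τ (c : G) = (c : G)⁻¹ := apply_eq_inv c.2
      have hconj : ∀ u : G, u ∈ N → (c : G)⁻¹ * τ u * c ∈ N := by
        intro u hu
        have := hNn.conj_mem (τ u) ((hτN u).2 hu) (c : G)⁻¹
        rwa [inv_inv] at this
      have hsq : ∀ u : G, (c : G)⁻¹ * τ ((c : G)⁻¹ * τ u * c) * c = u := by
        intro u
        rw [map_mul, map_mul, map_inv, hcτ, sq_apply hτ]
        group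
      let β : MulAut N :=
        { toFun := fun u => ⟨(c : G)⁻¹ * τ u * c, hconj u u.2⟩
          invFun := fun u => ⟨(c : G)⁻¹ * τ u * c, hconj u u.2⟩
          left_inv := fun u => Subtype.ext (hsq u)
          right_inv := fun u => Subtype.ext (hsq u)
          map_mul' := fun a b => Subtype.ext (by
            show (c : G)⁻¹ * τ (a * b) * c = ((c : G)⁻¹ * τ a * c) * ((c : G)⁻¹ * τ b * c)
            rw [map_mul]; group) }
      have hβ : β * β = 1 := by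
        ext u
        exact hsq u
      refine le_trans (Nat.mul_le_mul_right _ ?_) (hN β hβ)
      rw [← Fintype.card_coe, ← Nat.card_eq_fintype_card]
      have hmem : ∀ x : {x // x ∈ Finset.univ.filter fun x : Tw τ => (QuotientGroup.mk (x : G) : G ⧸ N) = q},
          (c : G)⁻¹ * x.1 ∈ N := by
        intro x
        have hx := (Finset.mem_filter.1 x.2).2
        exact QuotientGroup.eq.1 (hcq.trans hx.symm)
      refine Nat.card_le_card_of_injective
        (fun x : {x // x ∈ Finset.univ.filter fun x : Tw τ => (QuotientGroup.mk (x : G) : G ⧸ N) = q} =>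
          (⟨⟨(c : G)⁻¹ * x.1, hmem x⟩, ?_⟩ : Tw β)) ?_
      · apply Subtype.ext
        show ((c : G)⁻¹ * x.1) * ((c : G)⁻¹ * τ ((c : G)⁻¹ * x.1) * c) = 1
        have hx : τ ((x.1 : Tw τ) : G) = ((x.1 : Tw τ) : G)⁻¹ := apply_eq_inv x.1.2
        rw [map_mul, map_inv, hcτ, hx]
        group
      · intro x y e
        have e1 : (c : G)⁻¹ * x.1 = (c : G)⁻¹ * y.1 := congrArg (fun z : Tw β => ((z : N) : G)) e
        exact Subtype.ext (Subtype.ext (mul_left_cancel e1))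
  calc Nat.card (Tw τ) * p = ∑ q : G ⧸ N, (Finset.univ.filter fun x : Tw τ => (QuotientGroup.mk (x : G) : G ⧸ N) = q).card * p := by
        rw [h0, Finset.sum_mul]
    _ ≤ ∑ _q : G ⧸ N, Nat.card N := Finset.sum_le_sum fun q _ => h1 q
    _ = Nat.card G := by
        rw [Finset.sum_const, Finset.card_univ, smul_eq_mul, ← Nat.card_eq_fintype_card,
          ← Subgroup.card_eq_card_quotient_mul_card_subgroup]

open CoxeterSystem Cfsg.Agent.ChevalleyStructure.CoxeterGeom Cfsg.Agent.Tits.Roots Cfsg.Agent.Tits.Core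
  Cfsg.Agent.Tits.Exchange Cfsg.Agent.Nodes.Reps Cfsg.Agent.Nodes.BNOf Cfsg.Agent.Nodes.StabComb
  Cfsg.Agent.Nodes.Bruhat Cfsg.Agent.Nodes.OppDec Cfsg.Agent.Nodes.LeviDec Cfsg.Agent.Nodes.NormalForm
  Cfsg.Agent.KFacts.RgdOpp Cfsg.Agent.KFacts.RgdAut Cfsg.Agent.KFacts.RgdDiag Cfsg.Agent.Nodes.CardSup
  Cfsg.Agent.Nodes.BNOf.RGD Cfsg.Agent.Nodes.Comb Cfsg.Agent.Nodes.Unique

variable {I W Y : Type*} [Fintype I] [DecidableEq I] [Group W] [Group Y] {M : CoxeterMatrix I}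
  {cs : CoxeterSystem M W} {A : I → I → ℤ} {h : IsCartan M A} {p : ℕ} {T : Subgroup Y} {n : I → Y}
  {X : (I → ℤ) → Subgroup Y} (R : RGD cs h p T n X)

include R

theorem cell_one {y : Y} (hy : Cell R.nsys cs h X 1 y) : y ∈ RGD.B cs h T X := by
  obtain ⟨b₁, hb₁, k, hk, b₂, hb₂, rfl⟩ := hy
  exact mul_mem (mul_mem hb₁ (T_le_B hk.mem_of_one)) hb₂

/-- the cell of `1` -/
theorem card_JJ_one [Finite W] [Finite Y] (hp : p.Prime) (hp2 : p ≠ 2) {α : MulAut Y} (hα : α * α = 1) {g : Y}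
    (hU : Fix (MulAut.conj g * α) (RGD.Sup X (RGD.Pos cs h))) (hB : Fix (MulAut.conj g * α) (RGD.B cs h T X))
    (hne : ∃ a ∈ RGD.Sup X (RGD.Pos cs h), ∃ b ∈ RGD.Sup X (RGD.Pos cs h), a * b ≠ b * a) {x : Y} (hx : x ∈ Tw α)
    (hy : x * g⁻¹ ∈ RGD.B cs h T X) :
    Nat.card (JJ α (RGD.B cs h T X) x) * p ≤ Nat.card (DD α (RGD.B cs h T X) x) := by
  set B := RGD.B cs h T X with hBdef
  set U := RGD.Sup X (RGD.Pos cs h) with hUdef
  have htau : ∀ c : Y, tau α x c = (x * g⁻¹) * (MulAut.conj g * α) c * (x * g⁻¹)⁻¹ := by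
    intro c
    rw [tau_apply, MulAut.mul_apply, MulAut.conj_apply]
    group
  have htB : ∀ c ∈ B, tau α x c ∈ B := by
    intro c hc
    rw [htau]
    exact mul_mem (mul_mem hy ((hB c).2 hc)) (inv_mem hy)
  have htU : ∀ c, tau α x c ∈ U ↔ c ∈ U := by
    intro c
    rw [htau, ← Subgroup.mem_normalizer_iff.1 (R.B_le_normalizer_U hy), hU]
  have hDD : DD α B x = B := by
    ext c
    rw [mem_DD hα hx]
    exact ⟨fun h => h.1, fun h => ⟨h, htB c h⟩⟩
  have hUB : U ≤ DD α B x := by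
    rw [hDD]
    exact fun u hu => U_le_B hu
  rw [card_JJ hα B hx]
  have : Fact p.Prime := ⟨hp⟩
  refine card_tw_ext (N := U.subgroupOf (DD α B x)) ?_ (tauD_mul_self hα B hx) ?_ ?_
  · refine ⟨fun u hu c => ?_⟩
    have hc : (c : Y) ∈ B := hDD.le c.2
    exact (Subgroup.mem_normalizer_iff.1 (R.B_le_normalizer_U hc) _).1 hu
  · intro c
    exact htU c
  · intro β hβ
    refine card_tw_mul_le hp hp2 ?_ ?_ hβ
    · have h1 : IsPGroup p U := R.isPGroup_Upos
      exact h1.of_equiv (Subgroup.subgroupOfEquivOfLe hUB).symm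
    · obtain ⟨a, ha, b, hb, hab⟩ := hne
      refine ⟨⟨⟨a, hUB ha⟩, ha⟩, ⟨⟨b, hUB hb⟩, hb⟩, fun e => hab ?_⟩
      exact congrArg (fun z : U.subgroupOf (DD α B x) => ((z : ↥(DD α B x)) : Y)) e

/-- `U` is not abelian if two nodes are joined -/
theorem U_not_comm [Finite W] {i j : I} (hij : i ≠ j) (hM : rep cs h (cs.simple i) (sr j) ≠ sr j) :
    ∃ a ∈ RGD.Sup X (RGD.Pos cs h), ∃ b ∈ RGD.Sup X (RGD.Pos cs h), a * b ≠ b * a := by
  by_contra hcon
  push Not at hcon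
  have hXU : ∀ i : I, ∀ u ∈ X (sr i), u ∈ RGD.Sup X (RGD.Pos cs h) := fun i u hu =>
    RGD.le_Sup (S := RGD.Pos cs h) ⟨isRoot_sr cs h i, sr_nonneg i⟩ hu
  obtain ⟨⟨u, hu⟩, hu1⟩ := Subgroup.ne_bot_iff_exists_ne_one.1 (X_ne_bot R (isRoot_sr cs h j))
  obtain ⟨⟨v, hv⟩, hv1⟩ := Subgroup.ne_bot_iff_exists_ne_one.1 (X_ne_bot R (isRoot_sr cs h i).neg)
  obtain ⟨a, ha, t, ht, b, hb, e⟩ := R.rk1 i v hv (fun h => hv1 (Subtype.ext h))
  have hne1 : -sr i ≠ sr j := by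
    intro e
    have := congrFun e i
    simp [sr, hij] at this
  have hne2 : -sr i ≠ -sr j := by
    intro e
    have := congrFun e i
    simp [sr, hij] at this
  have hno : ∀ z, ¬ Btwn cs h (-sr i) (sr j) z := by
    rintro z ⟨hz, m, a, b, hm, ha, hb, he⟩
    have h1 := congrFun he i
    have h2 := congrFun he j
    simp [sr, hij, hij.symm] at h1 h2
    rcases hz.pos_or_neg with h3 | h3
    · have h4 : 0 ≤ z i := h3 i
      nlinarith
    · have h4 : z j ≤ 0 := h3 j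
      nlinarith
  have hvu : v * u = u * v := by
    have h1 := R.comm _ _ (isRoot_sr cs h i).neg (isRoot_sr cs h j) hne1 hne2 v hv u hu
    have h5 : btw cs h X (-sr i) (sr j) ≤ ⊥ := by
      unfold Nodes.Reps.btw
      refine iSup_le ?_
      rintro ⟨w, hw⟩
      exact absurd hw (hno w)
    exact commutatorElement_eq_one_iff_mul_comm.1 ((Subgroup.mem_bot).1 (h5 h1))
  have hau := hcon a (hXU i a ha) u (hXU j u hu)
  have hbu := hcon b (hXU i b hb) u (hXU j u hu)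
  have hk : t * n i = a⁻¹ * v * b⁻¹ := by rw [e]; group
  have hconj : (t * n i) * u * (t * n i)⁻¹ = u := by
    have h1 : Commute (t * n i) u := by
      rw [hk]
      exact ((Commute.inv_left hau).mul_left hvu).mul_left (Commute.inv_left hbu)
    rw [h1.eq, mul_inv_cancel_right]
  have hmem : (t * n i) * u * (t * n i)⁻¹ ∈ X (rep cs h (cs.simple i) (sr j)) := by
    have h1 := R.conj_mem (rp_simple cs R.nsys i) (isRoot_sr cs h j) hu
    have h2 := R.tor _ ((isRoot_sr cs h j).act (cs.simple i)) t ht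
    rw [← h2]
    have h3 : (t * n i) * u * (t * n i)⁻¹ = t * (n i * u * (n i)⁻¹) * t⁻¹ := by group
    rw [h3]
    exact conj_mem_cj.2 h1
  rw [hconj] at hmem
  have h1 : u ∈ X (rep cs h (cs.simple i) (sr j)) ⊓ X (sr j) := ⟨hmem, hu⟩
  rw [X_inf_X R ((isRoot_sr cs h j).act _) (isRoot_sr cs h j) hM, Subgroup.mem_bot] at h1
  exact hu1 (Subtype.ext h1)

theorem same_dc [Finite W] {α : MulAut Y} {g : Y} (hB : Fix (MulAut.conj g * α) (RGD.B cs h T X)) {x y : Y} {w : W}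
    (hx : Cell R.nsys cs h X w (x * g⁻¹)) (hy : Cell R.nsys cs h X w (y * g⁻¹)) :
    ∃ b ∈ RGD.B cs h T X, ∃ c ∈ RGD.B cs h T X, y = b * x * α c := by
  obtain ⟨b₁, hb₁, k, hk, b₂, hb₂, e⟩ := hx
  obtain ⟨c₁, hc₁, l, hl, c₂, hc₂, e'⟩ := hy
  have ht : k⁻¹ * l ∈ T := by
    have := hk.inv.mul hl
    rw [inv_mul_cancel] at this
    exact this.mem_of_one
  have hd : b₂⁻¹ * (k⁻¹ * l) * c₂ ∈ RGD.B cs h T X :=
    mul_mem (mul_mem (inv_mem hb₂) (RGD.T_le_B ht)) hc₂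
  have hdβ := (hB.inv (b₂⁻¹ * (k⁻¹ * l) * c₂)).2 hd
  refine ⟨c₁ * b₁⁻¹, mul_mem hc₁ (inv_mem hb₁), _, hdβ, ?_⟩
  have h2 : α ((MulAut.conj g * α)⁻¹ (b₂⁻¹ * (k⁻¹ * l) * c₂)) = g⁻¹ * (b₂⁻¹ * (k⁻¹ * l) * c₂) * g := by
    have h3 : (MulAut.conj g * α) ((MulAut.conj g * α)⁻¹ (b₂⁻¹ * (k⁻¹ * l) * c₂)) = b₂⁻¹ * (k⁻¹ * l) * c₂ :=
      MulAut.apply_inv_self _ _ _
    rw [MulAut.mul_apply, MulAut.conj_apply] at h3
    have h4 : ∀ z v : Y, g * z * g⁻¹ = v → z = g⁻¹ * v * g := by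
      intro z v e
      rw [← e]; group
    exact h4 _ _ h3
  rw [h2]
  have h4 : x = b₁ * k * b₂ * g := by rw [← e]; group
  have h5 : y = c₁ * l * c₂ * g := by rw [← e']; group
  rw [h4, h5]
  group

/-- the count with the cell of `1` -/
theorem card_tw_le_odd [Finite W] [Finite Y] [Fact p.Prime] (hp2 : p ≠ 2) (hG : GG cs h T X = ⊤)
    (hne : ∃ a ∈ RGD.Sup X (RGD.Pos cs h), ∃ b ∈ RGD.Sup X (RGD.Pos cs h), a * b ≠ b * a) {α : MulAut Y}
    (hα : α * α = 1) {s : ℕ}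
    (hs : ∀ (σ : Equiv.Perm I) (hσ : ∀ i j, M (σ i) (σ j) = M i j), Nat.card {w : W // hat cs σ hσ w = w⁻¹} ≤ s + 1) :
    Nat.card (Tw α) * p ≤ Nat.card ↥(RGD.B cs h T X) * (s * p + 1) := by
  classical
  have hp : p.Prime := Fact.out
  obtain ⟨g, hU, hB, -, σ, D⟩ := exists_frame_any R hG α
  have hσ : ∀ i j, M (σ i) (σ j) = M i j := D.matrix R
  have : Fintype W := Fintype.ofFinite W
  have hcell : ∀ x : Y, ∃ w, Cell R.nsys cs h X w (x * g⁻¹) := fun x =>
    (mem_GG R).1 (by rw [hG]; exact Subgroup.mem_top _)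
  choose δ hδ using hcell
  set S := Finset.univ.filter fun w : W => hat cs σ hσ w = w⁻¹ with hS
  have h1S : (1 : W) ∈ S := Finset.mem_filter.2 ⟨Finset.mem_univ _, by rw [map_one, inv_one]⟩
  have hp0 : (0 : ℚ) < p := by exact_mod_cast hp.pos
  have h1 := card_tw_le_sum hα (RGD.B cs h T X) δ S
    (fun x hx => Finset.mem_filter.2 ⟨Finset.mem_univ _, cell_of_tw R hG hα hU hB D hσ hx (hδ x)⟩)
    (fun x _ y _ hxy => same_dc R hB (hδ x) (by rw [hxy]; exact hδ y)) (fun w => if w = 1 then 1 / p else 1)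
    (fun w _ => by split_ifs <;> positivity) ?_
  · have h2 : ∑ w ∈ S, (if w = 1 then (1 / p : ℚ) else 1) ≤ 1 / p + s := by
      rw [← Finset.add_sum_erase S _ h1S, if_pos rfl]
      have h3 : ∑ w ∈ S.erase 1, (if w = 1 then (1 / p : ℚ) else 1) = (S.erase 1).card := by
        rw [Finset.card_eq_sum_ones, Nat.cast_sum]
        refine Finset.sum_congr rfl fun w hw => ?_
        rw [if_neg (Finset.ne_of_mem_erase hw), Nat.cast_one]
      rw [h3]
      have h4 : (S.erase 1).card ≤ s := by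
        rw [Finset.card_erase_of_mem h1S]
        have h5 : Nat.card {w : W // hat cs σ hσ w = w⁻¹} = S.card := by
          rw [Nat.card_eq_fintype_card, Fintype.card_subtype]
        have := hs σ hσ
        omega
      have : ((S.erase 1).card : ℚ) ≤ s := by exact_mod_cast h4
      linarith
    have h6 : (Nat.card (Tw α) * p : ℚ) ≤ Nat.card ↥(RGD.B cs h T X) * (s * p + 1) := by
      calc (Nat.card (Tw α) * p : ℚ) ≤ (Nat.card ↥(RGD.B cs h T X) * (1 / p + s)) * p := by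
            have := h1.trans (mul_le_mul_of_nonneg_left h2 (by positivity))
            gcongr
        _ = _ := by field_simp; ring
    exact_mod_cast h6
  · intro x hx
    split_ifs with hw
    · have h2 := card_JJ_one R hp hp2 hα hU hB hne hx (cell_one R (by have := hδ x; rwa [hw] at this))
      have h3 : (Nat.card (JJ α (RGD.B cs h T X) x) * p : ℚ) ≤ Nat.card (DD α (RGD.B cs h T X) x) := by exact_mod_cast h2
      rw [one_div, inv_mul_eq_div, le_div_iff₀ hp0]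
      exact h3
    · rw [one_mul]
      exact_mod_cast card_JJ_le α (RGD.B cs h T X) x

/-- **the criterion** for odd `p` -/
theorem cube_of_odd [Finite W] [Finite Y] [Fact p.Prime] (hp2 : p ≠ 2) (hG : GG cs h T X = ⊤)
    (hne : ∃ a ∈ RGD.Sup X (RGD.Pos cs h), ∃ b ∈ RGD.Sup X (RGD.Pos cs h), a * b ≠ b * a) {s N : ℕ}
    (hs : ∀ (σ : Equiv.Perm I) (hσ : ∀ i j, M (σ i) (σ j) = M i j), Nat.card {w : W // hat cs σ hσ w = w⁻¹} ≤ s + 1)
    (hN : Nat.card ↥(RGD.B cs h T X) * N ≤ Nat.card Y) (hlt : (s * p + 1) ^ 3 * Nat.card Y < (p * N) ^ 3) : CubeBound Y := by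
  apply CubeBound.of_tw
  intro α hα
  have h1 := card_tw_le_odd R hp2 hG hne (mul_self_of_order hα) hs
  set b := Nat.card ↥(RGD.B cs h T X)
  set y := Nat.card Y
  set t := Nat.card (Tw α)
  have hy : 0 < y := Nat.card_pos
  have h3 : t ^ 3 * (p * N) ^ 3 ≤ y ^ 3 * (s * p + 1) ^ 3 := by
    calc t ^ 3 * (p * N) ^ 3 = (t * p) ^ 3 * N ^ 3 := by ring
      _ ≤ (b * (s * p + 1)) ^ 3 * N ^ 3 := Nat.mul_le_mul_right _ (Nat.pow_le_pow_left h1 3)
      _ = (b * N) ^ 3 * (s * p + 1) ^ 3 := by ring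
      _ ≤ y ^ 3 * (s * p + 1) ^ 3 := Nat.mul_le_mul_right _ (Nat.pow_le_pow_left hN 3)
  have h4 : y ^ 3 * (s * p + 1) ^ 3 < y ^ 2 * (p * N) ^ 3 := by
    calc y ^ 3 * (s * p + 1) ^ 3 = y ^ 2 * ((s * p + 1) ^ 3 * y) := by ring
      _ < y ^ 2 * (p * N) ^ 3 := Nat.mul_lt_mul_of_pos_left hlt (by positivity)
  exact Nat.lt_of_mul_lt_mul_right (h3.trans_lt h4)

/-- **the criterion** with a central involution of `W` not centralising `T` -/
theorem cube_of_ref [Finite W] [Finite Y] [Fact p.Prime] (hG : GG cs h T X = ⊤)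
    (hTc : ∀ s ∈ T, ∀ t ∈ T, s * t = t * s) {v : W} {kv : Y}
    (hv : Rp cs R.nsys v kv) (hv2 : v * v = 1) (hvc : ∀ w, w * v = v * w)
    (hvσ : ∀ (σ : Equiv.Perm I) (hσ : ∀ i j, M (σ i) (σ j) = M i j), hat cs σ hσ v = v) (hne : ∃ t ∈ T, kv * t * kv⁻¹ ≠ t)
    {l : ℕ} (hl : ∀ d, d ∣ Nat.card T → d ≠ 1 → l ≤ d) (hl0 : 0 < l) {s N : ℕ}
    (hs : ∀ (σ : Equiv.Perm I) (hσ : ∀ i j, M (σ i) (σ j) = M i j), Nat.card {w : W // hat cs σ hσ w = w⁻¹} ≤ s)
    (hN : Nat.card ↥(RGD.B cs h T X) * N ≤ Nat.card Y) (hlt : (s * (l + 1)) ^ 3 * Nat.card Y < (2 * l * N) ^ 3) :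
    CubeBound Y := by
  apply CubeBound.of_tw
  intro α hα
  obtain ⟨σ, hσ, h0⟩ := Ref.card_tw_le_ref R hG hTc (mul_self_of_order hα) hv hv2 hvc hvσ hne hl hl0
  have h1 : 2 * l * Nat.card (Tw α) ≤ Nat.card ↥(RGD.B cs h T X) * (s * (l + 1)) :=
    h0.trans (Nat.mul_le_mul_left _ (Nat.mul_le_mul_right _ (hs σ hσ)))
  set b := Nat.card ↥(RGD.B cs h T X)
  set y := Nat.card Y
  set t := Nat.card (Tw α)
  have hy : 0 < y := Nat.card_pos
  have h3 : t ^ 3 * (2 * l * N) ^ 3 ≤ y ^ 3 * (s * (l + 1)) ^ 3 := by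
    calc t ^ 3 * (2 * l * N) ^ 3 = (2 * l * t) ^ 3 * N ^ 3 := by ring
      _ ≤ (b * (s * (l + 1))) ^ 3 * N ^ 3 := Nat.mul_le_mul_right _ (Nat.pow_le_pow_left h1 3)
      _ = (b * N) ^ 3 * (s * (l + 1)) ^ 3 := by ring
      _ ≤ y ^ 3 * (s * (l + 1)) ^ 3 := Nat.mul_le_mul_right _ (Nat.pow_le_pow_left hN 3)
  have h4 : y ^ 3 * (s * (l + 1)) ^ 3 < y ^ 2 * (2 * l * N) ^ 3 := by
    calc y ^ 3 * (s * (l + 1)) ^ 3 = y ^ 2 * ((s * (l + 1)) ^ 3 * y) := by ring
      _ < y ^ 2 * (2 * l * N) ^ 3 := Nat.mul_lt_mul_of_pos_left hlt (by positivity)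
  exact Nat.lt_of_mul_lt_mul_right (h3.trans_lt h4)

end Cfsg.Agent.H383.Cube.Odd
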