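import Mathlib
import Cfsg.Agent.H383.Cube.Odd
import Cfsg.Agent.H383.Cube.Fam
import Cfsg.Agent.H807.CubePar
import Cfsg.Agent.Nodes.WittU

/-!
# The torus of the groups of Witt frames (helper383, S5721)

* `tor_comm` : the torus is commutative if `dim V0 ≤ 1`;
* `conj_ne` : the element `-1` of the Weyl group does not centralise the torus;
* `cube_wit` : the refined criterion.
-/

set_option autoImplicit false
set_option linter.unusedSectionVars false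

namespace Cfsg.Agent.H383.Cube.TorWitt

open Cfsg
open CoxeterSystem Cfsg.Agent.ChevalleyStructure.CoxeterGeom Cfsg.Agent.Tits.Roots Cfsg.Agent.Tits.Core
  Cfsg.Agent.Nodes.Comb Cfsg.Agent.Nodes.Reps Cfsg.Agent.Nodes.BNOf
  Cfsg.Agent.Nodes.RGDLib Cfsg.Agent.Nodes.Bruhat Cfsg.Agent.KFacts.RgdDiag
open Cfsg.Agent.Nodes Cfsg.Agent.Nodes.WittAll Cfsg.Agent.Nodes.WittU Cfsg.Agent.Nodes.WittInst
  Cfsg.Agent.Nodes.WittRoot Cfsg.Agent.Nodes.CardWitt Cfsg.Agent.Nodes.CardSup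
  Cfsg.Agent.TitsThree Cfsg.Agent.TitsThree.Siegel Cfsg.Agent.TitsThree.SiegelGen
  Cfsg.Agent.TitsThree.WittFrame Cfsg.Agent.TitsThree.WBridge Cfsg.Agent.TitsThree.WittWeyl
  Cfsg.Agent.TitsThree.FrameCN Cfsg.Agent.Nodes.TypeC Cfsg.Agent.Nodes.WittRGD

variable {F : Type*} [Field F] {V : Type*} [AddCommGroup V] [Module F V] {H : HForm F V} {n : ℕ}
  {Fr : Frame H (Fin n)}

theorem exists_scal {G0 : Subgroup (V ≃ₗ[F] V)} (hA : Amb Fr G0) {d : V} (hd : ∀ v ∈ Fr.V0, ∃ a : F, v = a • d)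
    (hd0 : d ∈ Fr.V0) {g : V ≃ₗ[F] V} (hg : g ∈ G0) {π ρ : Fin n × Bool → Fin n × Bool} (hm : Mono Fr g π)
    (hρ : ∀ x, π (ρ x) = x) : ∃ μ : F, ∀ w ∈ Fr.V0, g w = μ • w := by
  obtain ⟨μ, hμ⟩ := hd _ (hA.map_V0 hg hm hρ hd0)
  refine ⟨μ, fun w hw => ?_⟩
  obtain ⟨a, rfl⟩ := hd w hw
  rw [map_smul, hμ, smul_comm]

theorem tor_comm {G0 : Subgroup (V ≃ₗ[F] V)} (hA : Amb Fr G0) {d : V} (hd : ∀ v ∈ Fr.V0, ∃ a : F, v = a • d)
    (hd0 : d ∈ Fr.V0) {g k : V ≃ₗ[F] V} (hg : g ∈ Tor Fr G0) (hk : k ∈ Tor Fr G0) : g * k = k * g := by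
  obtain ⟨μ, hμ⟩ := exists_scal hA hd hd0 hg.1 hg.2 (ρ := id) (fun _ => rfl)
  obtain ⟨ν, hν⟩ := exists_scal hA hd hd0 hk.1 hk.2 (ρ := id) (fun _ => rfl)
  have key : (k * g)⁻¹ * (g * k) = 1 := by
    refine Amb.eq_one_of_fix hA ?_ ?_
    · intro x
      obtain ⟨l, -, hl⟩ := hg.2 x
      obtain ⟨m, -, hm⟩ := hk.2 x
      have h1 : (g * k) (Fr.b x) = (k * g) (Fr.b x) := by
        change g (k (Fr.b x)) = k (g (Fr.b x))
        rw [hl, hm, map_smul, map_smul]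
        change m • g (Fr.b x) = l • k (Fr.b x)
        rw [hl, hm]
        change m • l • Fr.b x = l • m • Fr.b x
        rw [smul_comm]
      change (k * g)⁻¹ ((g * k) (Fr.b x)) = Fr.b x
      rw [h1]
      exact (k * g).symm_apply_apply _
    · intro w hw
      have h1 : (g * k) w = (k * g) w := by
        change g (k w) = k (g w)
        rw [hμ w hw, hν w hw, map_smul, map_smul, hμ w hw, hν w hw, smul_comm]
      change (k * g)⁻¹ ((g * k) w) = w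
      rw [h1]
      exact (k * g).symm_apply_apply _
  exact (inv_mul_eq_one.1 key).symm

variable {K : Type*} [Group K] (M : Model Fr K)

theorem T_comm (hA : Amb Fr M.I) {d : V} (hd : ∀ v ∈ Fr.V0, ∃ a : F, v = a • d) (hd0 : d ∈ Fr.V0) :
    ∀ s ∈ WittModel.T M, ∀ t ∈ WittModel.T M, s * t = t * s := by
  rintro _ ⟨g, hg, rfl⟩ _ ⟨k, hk, rfl⟩
  have h1 : g * k = k * g := Subtype.ext (tor_comm hA hd hd0 hg hk)
  have h2 := congrArg M.φ h1
  rwa [map_mul, map_mul] at h2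

/-- the element `k`, which acts as `-1` on the frame, does not centralise the torus -/
theorem conj_ne (hA : Amb Fr M.I) {k : V ≃ₗ[F] V} (hk : k ∈ M.I) (hkm : Mono Fr k neg) {i : Fin n}
    (hi : ¬ (i : ℕ) + 1 < n) {p p' : Fr.Adm} (hp : p.c ≠ 0) (hp' : p'.c ≠ 0)
    (hne : p.c * H.σ p.c ≠ p'.c * H.σ p'.c) {z : V} (hz0 : z ≠ 0) (hzh : H.h z (Fr.b (i, true)) = 0)
    (hzg : ∀ t ∈ Tor Fr M.I, (∀ y : Fin n × Bool, y.1 ≠ i → t (Fr.b y) = Fr.b y) → k (t (k⁻¹ (t⁻¹ z))) = z) :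
    ∃ t ∈ WittModel.T M, M.φ ⟨k, hk⟩ * t * (M.φ ⟨k, hk⟩)⁻¹ ≠ t := by
  set x0 : Fin n × Bool := (i, true) with hx0
  have hη := Fr.η_ne x0
  have hε := H.ε_ne
  have hσ : H.σ p.c ≠ 0 := by simpa using hp
  have hσ' : H.σ p'.c ≠ 0 := by simpa using hp'
  set t : V ≃ₗ[F] V := nZ Fr x0 p * (nZ Fr x0 p')⁻¹ with ht
  have hpI : nZ Fr x0 p ∈ M.I := mul_mem (mul_mem (hA.Z_mem _ _) (hA.Z_mem _ _)) (hA.Z_mem _ _)
  have hpI' : nZ Fr x0 p' ∈ M.I := mul_mem (mul_mem (hA.Z_mem _ _) (hA.Z_mem _ _)) (hA.Z_mem _ _)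
  have htT : t ∈ Tor Fr M.I :=
    ⟨mul_mem hpI (inv_mem hpI'), ((mono_nZ hi hp).mul ((mono_nZ hi hp').inv (sg_sg i))).congr fun x => sg_sg i x⟩
  have hinv : ∀ (g : V ≃ₗ[F] V) (a b : V) (l : F), l ≠ 0 → g a = l • b → g⁻¹ b = l⁻¹ • a := by
    intro g a b l hl e
    have h1 : b = g (l⁻¹ • a) := by rw [map_smul, e, smul_smul, inv_mul_cancel₀ hl, one_smul]
    rw [h1]
    exact g.symm_apply_apply _
  have ht1 : t (Fr.b x0) = (p.c * p'.c⁻¹) • Fr.b x0 := by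
    change nZ Fr x0 p ((nZ Fr x0 p')⁻¹ (Fr.b x0)) = _
    rw [hinv _ _ _ _ (mul_ne_zero hη hp') (nZ_apply_neg Fr x0 p' hp'), map_smul, nZ_apply_neg Fr x0 p hp, smul_smul]
    congr 1
    field_simp
  have ht2 : t (Fr.b (neg x0)) = (H.σ p'.c * (H.σ p.c)⁻¹) • Fr.b (neg x0) := by
    change nZ Fr x0 p ((nZ Fr x0 p')⁻¹ (Fr.b (neg x0))) = _
    have hl : H.ε * (Fr.η x0)⁻¹ * (H.σ p'.c)⁻¹ ≠ 0 :=
      mul_ne_zero (mul_ne_zero hε (inv_ne_zero hη)) (inv_ne_zero hσ')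
    rw [hinv _ _ _ _ hl (nZ_apply_self Fr x0 p' hp'), map_smul, nZ_apply_self Fr x0 p hp, smul_smul]
    congr 1
    field_simp
  have hty : ∀ y : Fin n × Bool, y.1 ≠ i → t (Fr.b y) = Fr.b y := by
    intro y hy
    change nZ Fr x0 p ((nZ Fr x0 p')⁻¹ (Fr.b y)) = _
    have h1 : nZ Fr x0 p' (Fr.b y) = (1 : F) • Fr.b y := by rw [one_smul]; exact nZ_apply_of_ne Fr hy p'
    rw [hinv _ _ _ _ one_ne_zero h1, inv_one, one_smul]
    exact nZ_apply_of_ne Fr hy p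
  refine ⟨M.φ ⟨t, htT.1⟩, ⟨⟨t, htT.1⟩, htT, rfl⟩, fun e => ?_⟩
  have hgI : k * t * k⁻¹ * t⁻¹ ∈ M.I := mul_mem (mul_mem (mul_mem hk htT.1) (inv_mem hk)) (inv_mem htT.1)
  have h1 : M.φ ⟨k * t * k⁻¹ * t⁻¹, hgI⟩ = 1 := by
    have h2 : (⟨k * t * k⁻¹ * t⁻¹, hgI⟩ : M.I) = ⟨k, hk⟩ * ⟨t, htT.1⟩ * (⟨k, hk⟩ : M.I)⁻¹ * (⟨t, htT.1⟩ : M.I)⁻¹ := rfl
    rw [h2, map_mul, map_mul, map_mul, map_inv, map_inv, e, mul_inv_cancel]
  -- on `b (neg x0)`
  have hb : (k * t * k⁻¹ * t⁻¹) (Fr.b (neg x0)) = ((p.c * H.σ p.c) * (p'.c * H.σ p'.c)⁻¹) • Fr.b (neg x0) := by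
    change k (t (k⁻¹ (t⁻¹ (Fr.b (neg x0))))) = _
    obtain ⟨l, hl, hkl⟩ := hkm x0
    rw [hinv t _ _ _ (mul_ne_zero hσ' (inv_ne_zero hσ)) ht2, map_smul, hinv k _ _ _ hl hkl]
    simp only [map_smul]
    rw [ht1]
    simp only [map_smul]
    rw [hkl, smul_smul, smul_smul, smul_smul]
    congr 1
    field_simp
  obtain ⟨c, hc⟩ := M.ker (z + Fr.b (neg x0)) _ h1
  have hz : (k * t * k⁻¹ * t⁻¹) z = z := hzg t htT hty
  have hc' : (k * t * k⁻¹ * t⁻¹) (z + Fr.b (neg x0)) = c • (z + Fr.b (neg x0)) := hc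
  rw [map_add, hz, hb, smul_add] at hc'
  -- pairing with `b x0`
  have h3 := congrArg (fun v => H.h v (Fr.b x0)) hc'
  simp only [H.add_left, H.smul_left, hzh, mul_zero, zero_add, Fr.hb_neg_self] at h3
  have h4 : (p.c * H.σ p.c) * (p'.c * H.σ p'.c)⁻¹ = c := mul_right_cancel₀ hη h3
  rw [h4, add_left_inj] at hc'
  have h5 : c = 1 := by
    have h6 : (1 - c) • z = 0 := by rw [sub_smul, one_smul, ← hc', sub_self]
    rcases smul_eq_zero.1 h6 with h7 | h7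
    · exact (sub_eq_zero.1 h7).symm
    · exact absurd h7 hz0
  rw [h5] at h4
  exact hne ((mul_inv_eq_one₀ (mul_ne_zero hp' hσ')).1 h4)

theorem le_of_coprime {N p l : ℕ} (hN : N.Coprime p) (hN0 : 0 < N) (hl : l = 2 ∨ (p = 2 ∧ l = 3)) :
    ∀ d, d ∣ N → d ≠ 1 → l ≤ d := by
  intro d hd h1
  have hd0 : 0 < d := Nat.pos_of_dvd_of_pos hd hN0
  rcases hl with rfl | ⟨rfl, rfl⟩
  · omega
  · have h2 : d ≠ 2 := by
      rintro rfl
      have := Nat.eq_one_of_dvd_coprimes hN hd (dvd_refl 2)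
      omega
    omega

/-- **the refined criterion for the groups of Witt frames** -/
theorem cube_wit [Finite V] [Finite K] {p : ℕ} [Fact p.Prime] [CharP F p] (hA : Amb Fr M.I) {p0 : Fr.Adm}
    (hp0 : p0.c ≠ 0) (hn : 0 < n) {d : V} (hd : ∀ v ∈ Fr.V0, ∃ a : F, v = a • d) (hd0 : d ∈ Fr.V0)
    {v : (CoxeterMatrix.B n).Group} {k : V ≃ₗ[F] V} (hk : k ∈ M.I) (hkm : Mono Fr k neg)
    (hv : Rp (CoxeterMatrix.B n).toCoxeterSystem
      (rgdC_model M (AmbT.of_amb hA p) hp0 (CoxeterMatrix.B n).toCoxeterSystem).nsys v (M.φ ⟨k, hk⟩))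
    (hv2 : v * v = 1) (hvc : ∀ w, w * v = v * w)
    (hvσ : ∀ (σ : Equiv.Perm (Fin n)) (hσ : ∀ i j, CoxeterMatrix.B n (σ i) (σ j) = CoxeterMatrix.B n i j),
      hat (CoxeterMatrix.B n).toCoxeterSystem σ hσ v = v)
    {i : Fin n} (hi : ¬ (i : ℕ) + 1 < n) {pa pb : Fr.Adm} (hpa : pa.c ≠ 0) (hpb : pb.c ≠ 0)
    (hne : pa.c * H.σ pa.c ≠ pb.c * H.σ pb.c) {z : V} (hz0 : z ≠ 0) (hzh : H.h z (Fr.b (i, true)) = 0)
    (hzg : ∀ t ∈ Tor Fr M.I, (∀ y : Fin n × Bool, y.1 ≠ i → t (Fr.b y) = Fr.b y) → k (t (k⁻¹ (t⁻¹ z))) = z)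
    {l : ℕ} (hl : l = 2 ∨ (p = 2 ∧ l = 3)) {a b : ℕ} (ha : a ≤ Nat.card F) (hb : b ≤ Nat.card Fr.Adm)
    (hlt : (sB n * (l + 1)) ^ 3 * Nat.card K < (2 * l * NB a b n) ^ 3) : CubeBound K := by
  have hAT := AmbT.of_amb hA p
  have hfin : Finite (CoxeterMatrix.B n).Group := Nodes.TypeC.finite_W (CoxeterMatrix.B n).toCoxeterSystem
  have R := rgdC_model M hAT hp0 (CoxeterMatrix.B n).toCoxeterSystem
  have hGG := H807.CubePar.GG_eq_top (T := WittModel.T M)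
    (WittModel.G1_eq_top M hn (CoxeterMatrix.B n).toCoxeterSystem)
  have hne' := conj_ne M hA hk hkm hi hpa hpb hne hz0 hzh hzg
  have hcop : (Nat.card (WittModel.T M)).Coprime p := R.tcop
  refine Odd.cube_of_ref R hGG (T_comm M hA hd hd0) hv hv2 hvc hvσ hne'
    (le_of_coprime hcop Nat.card_pos hl) (by omega) (fun σ hσ => H461.CoxB.card_tw_B _ σ hσ)
    (index_B R hGG (a := a) (b := b) fun j => ?_) hlt
  split_ifs with hj
  · exact ha.trans (H807.CubePar.card_short M hAT hp0 hj).ge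
  · exact hb.trans (H807.CubePar.card_last_ge M hj)

/-- rank one -/
theorem cube_wit_one {Fr : Frame H (Fin 1)} (M : Model Fr K) [Finite V] [Finite K] {p : ℕ} [Fact p.Prime] [CharP F p]
    (hA : Amb Fr M.I) {p0 : Fr.Adm}
    (hp0 : p0.c ≠ 0) {d : V} (hd : ∀ v ∈ Fr.V0, ∃ a : F, v = a • d) (hd0 : d ∈ Fr.V0) (hd1 : d ≠ 0)
    {pa pb : Fr.Adm} (hpa : pa.c ≠ 0) (hpb : pb.c ≠ 0)
    (hne : pa.c * H.σ pa.c ≠ pb.c * H.σ pb.c)
    {l : ℕ} (hl : l = 2 ∨ (p = 2 ∧ l = 3)) {a b : ℕ} (ha : a ≤ Nat.card F) (hb : b ≤ Nat.card Fr.Adm)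
    (hlt : (sB 1 * (l + 1)) ^ 3 * Nat.card K < (2 * l * NB a b 1) ^ 3) : CubeBound K := by
  have hAT := AmbT.of_amb hA p
  have hk : nn Fr p0 0 ∈ M.I := WittAll.nn_mem hAT p0 0
  have hkm : Mono Fr (nn Fr p0 0) neg := (mono_nn hp0 0).congr (by decide)
  have hfin : Finite (CoxeterMatrix.B 1).Group := Nodes.TypeC.finite_W (CoxeterMatrix.B 1).toCoxeterSystem
  refine cube_wit M hA hp0 Nat.one_pos hd hd0 (v := (CoxeterMatrix.B 1).toCoxeterSystem.simple 0) hk hkm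
    (rp_simple _ _ 0) ((CoxeterMatrix.B 1).toCoxeterSystem.simple_mul_simple_self 0) ?_ ?_ (i := 0) (by simp) hpa hpb hne hd1
    (Fr.h0' _ hd0) ?_ hl ha hb hlt
  · intro w
    obtain ⟨ω, rfl⟩ := (CoxeterMatrix.B 1).toCoxeterSystem.wordProd_surjective w
    induction ω with
    | nil => rw [wordProd_nil, one_mul, mul_one]
    | cons j ω ih =>
      have hj : j = 0 := Subsingleton.elim _ _
      rw [wordProd_cons, hj, mul_assoc, ih]
  · intro σ hσ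
    rw [hat_simple]
    congr 1
    exact Subsingleton.elim _ _
  · intro t ht _
    obtain ⟨μ, hμ⟩ := exists_scal hA hd hd0 ht.1 ht.2 (ρ := id) (fun _ => rfl)
    obtain ⟨μ', hμ'⟩ := exists_scal hA hd hd0 (inv_mem ht).1 (inv_mem ht).2 (ρ := id) (fun _ => rfl)
    obtain ⟨ν, hν⟩ := exists_scal hA hd hd0 hk hkm (ρ := neg) (fun x => neg_neg x)
    obtain ⟨ν', hν'⟩ := exists_scal hA hd hd0 (inv_mem hk) (hkm.inv (fun x => neg_neg x)) (ρ := neg) (fun x => neg_neg x)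
    have e1 : t (t⁻¹ d) = d := t.apply_symm_apply d
    have e2 : nn Fr p0 0 ((nn Fr p0 0)⁻¹ d) = d := (nn Fr p0 0).apply_symm_apply d
    rw [hμ' d hd0, map_smul, hμ d hd0] at e1
    rw [hν' d hd0, map_smul, hν d hd0] at e2
    rw [hμ' d hd0, map_smul, hν' d hd0]
    simp only [map_smul]
    rw [hμ d hd0]
    simp only [map_smul]
    rw [hν d hd0]
    calc μ' • ν' • μ • ν • d = μ' • μ • (ν' • ν • d) := by simp only [smul_smul]; congr 1; ring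
      _ = d := by rw [e2, e1]

theorem B_two : CoxeterMatrix.B 2 0 1 = 4 := by decide

/-- rank two -/
theorem cube_wit_two {Fr : Frame H (Fin 2)} (M : Model Fr K) [Finite V] [Finite K] {p : ℕ} [Fact p.Prime] [CharP F p]
    (hA : Amb Fr M.I) {p0 : Fr.Adm}
    (hp0 : p0.c ≠ 0) {d : V} (hd : ∀ v ∈ Fr.V0, ∃ a : F, v = a • d) (hd0 : d ∈ Fr.V0)
    {pa pb : Fr.Adm} (hpa : pa.c ≠ 0) (hpb : pb.c ≠ 0)
    (hne : pa.c * H.σ pa.c ≠ pb.c * H.σ pb.c)
    {l : ℕ} (hl : l = 2 ∨ (p = 2 ∧ l = 3)) {a b : ℕ} (ha : a ≤ Nat.card F) (hb : b ≤ Nat.card Fr.Adm)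
    (hlt : (sB 2 * (l + 1)) ^ 3 * Nat.card K < (2 * l * NB a b 2) ^ 3) : CubeBound K := by
  have hAT := AmbT.of_amb hA p
  have hn0 : nn Fr p0 0 ∈ M.I := WittAll.nn_mem hAT p0 0
  have hn1 : nn Fr p0 1 ∈ M.I := WittAll.nn_mem hAT p0 1
  have hk : nn Fr p0 0 * nn Fr p0 1 * (nn Fr p0 0 * nn Fr p0 1) ∈ M.I := mul_mem (mul_mem hn0 hn1) (mul_mem hn0 hn1)
  have hkm : Mono Fr (nn Fr p0 0 * nn Fr p0 1 * (nn Fr p0 0 * nn Fr p0 1)) neg :=
    (((mono_nn hp0 0).mul (mono_nn hp0 1)).mul ((mono_nn hp0 0).mul (mono_nn hp0 1))).congr (by decide)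
  have hfin : Finite (CoxeterMatrix.B 2).Group := Nodes.TypeC.finite_W (CoxeterMatrix.B 2).toCoxeterSystem
  set cs := (CoxeterMatrix.B 2).toCoxeterSystem with hcs
  set s := cs.simple 0 with hs
  set t := cs.simple 1 with ht
  have hss : s * s = 1 := cs.simple_mul_simple_self 0
  have htt : t * t = 1 := cs.simple_mul_simple_self 1
  have h4 : s * t * (s * t) * (s * t * (s * t)) = 1 := by
    have := cs.simple_mul_simple_pow 0 1
    rw [B_two] at this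
    calc s * t * (s * t) * (s * t * (s * t)) = (s * t) ^ 4 := by simp only [pow_succ, pow_zero, one_mul, mul_assoc]
      _ = 1 := this
  have hsi : s⁻¹ = s := inv_eq_of_mul_eq_one_right hss
  have hti : t⁻¹ = t := inv_eq_of_mul_eq_one_right htt
  have hvi : (s * t * (s * t))⁻¹ = s * t * (s * t) := inv_eq_of_mul_eq_one_right h4
  have hvi' : t * s * (t * s) = s * t * (s * t) := by
    have h1 : (s * t * (s * t))⁻¹ = t * s * (t * s) := by rw [mul_inv_rev, mul_inv_rev, hsi, hti]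
    rw [← h1, hvi]
  have hcs' : s * (s * t * (s * t)) = (s * t * (s * t)) * s := by
    rw [← hvi']
    calc s * (t * s * (t * s)) = (s * t * (s * t)) * s := by group
      _ = _ := by rw [hvi']
  have hct : t * (s * t * (s * t)) = (s * t * (s * t)) * t := by
    calc t * (s * t * (s * t)) = (t * s * (t * s)) * t := by group
      _ = _ := by rw [hvi']
  refine cube_wit M hA hp0 Nat.two_pos hd hd0 (v := s * t * (s * t)) hk hkm ?_ h4 ?_ ?_ (i := 1) (by simp) hpa hpb hne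
    (z := Fr.b (0, true)) ?_ ?_ ?_ hl ha hb hlt
  · have e : M.φ ⟨_, hk⟩ = M.φ ⟨nn Fr p0 0, hn0⟩ * M.φ ⟨nn Fr p0 1, hn1⟩ *
        (M.φ ⟨nn Fr p0 0, hn0⟩ * M.φ ⟨nn Fr p0 1, hn1⟩) := by
      rw [← map_mul, ← map_mul]
      rfl
    rw [e]
    exact ((rp_simple cs _ 0).mul (rp_simple cs _ 1)).mul ((rp_simple cs _ 0).mul (rp_simple cs _ 1))
  · intro w
    obtain ⟨ω, rfl⟩ := cs.wordProd_surjective w
    induction ω with
    | nil => rw [wordProd_nil, one_mul, mul_one]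
    | cons j ω ih =>
      have hj : cs.simple j * (s * t * (s * t)) = (s * t * (s * t)) * cs.simple j := by
        fin_cases j
        · exact hcs'
        · exact hct
      rw [wordProd_cons, mul_assoc, ih, ← mul_assoc, hj, mul_assoc]
  · intro σ hσ
    rw [map_mul, map_mul, hs, ht, hat_simple, hat_simple]
    have hσ2 : (σ 0 = 0 ∧ σ 1 = 1) ∨ (σ 0 = 1 ∧ σ 1 = 0) := by
      have h1 : σ 0 ≠ σ 1 := fun h => absurd (σ.injective h) (by decide)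
      revert h1
      generalize σ 0 = x
      generalize σ 1 = y
      revert x y
      decide
    rcases hσ2 with ⟨h1, h2⟩ | ⟨h1, h2⟩
    · rw [h1, h2]
    · rw [h1, h2]
      exact hvi'
  · intro h0
    have := Fr.hb_neg_self ((0, true) : Fin 2 × Bool)
    rw [h0] at this
    have h1 : H.h (Fr.b (neg (0, true))) 0 = 0 := by
      have := H.smul_right (0 : F) (Fr.b (neg (0, true))) (0 : V)
      rwa [zero_smul, map_zero, zero_mul] at this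
    rw [h1] at this
    exact Fr.η_ne _ this.symm
  · exact Fr.hb_ne (by decide)
  · intro g _ hg
    have e1 : g⁻¹ (Fr.b (0, true)) = Fr.b (0, true) := by
      nth_rewrite 1 [← hg (0, true) (by decide)]
      exact g.symm_apply_apply _
    rw [e1]
    obtain ⟨l, hl, e2⟩ := hkm (0, false)
    have e3 : neg ((0, false) : Fin 2 × Bool) = (0, true) := rfl
    rw [e3] at e2
    generalize nn Fr p0 0 * nn Fr p0 1 * (nn Fr p0 0 * nn Fr p0 1) = k at e2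
    have e4 : k⁻¹ (Fr.b (0, true)) = l⁻¹ • Fr.b (0, false) := by
      have h1 : Fr.b (0, true) = k (l⁻¹ • Fr.b (0, false)) := by
        rw [map_smul, e2, smul_smul, inv_mul_cancel₀ hl, one_smul]
      rw [h1]
      exact k.symm_apply_apply _
    rw [e4, map_smul, hg (0, false) (by decide), map_smul, e2, smul_smul, inv_mul_cancel₀ hl, one_smul]

end Cfsg.Agent.H383.Cube.TorWitt
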