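import Mathlib
import Cfsg.Agent.H383.Cube.Rgd
import Cfsg.Agent.Nodes.RGDChev
import Cfsg.Agent.Nodes.RGDLib
import Cfsg.Agent.ChevalleyStructure.OrderFinal
import Cfsg.Agent.ChevalleyStructure.CardCombAll
import Cfsg.Agent.S1043
import Cfsg.Agent.S1092
import Cfsg.Agent.S1093

/-!
# The bound `|T| < |C_T(α)| ^ 3` for the exceptional Chevalley groups (helper383, S5721)
-/

set_option autoImplicit false
set_option linter.unusedSectionVars false

namespace Cfsg.Agent.H383.Cube.Chev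

open Cfsg CoxeterSystem Cfsg.Agent.ChevalleyStructure.CoxeterGeom Cfsg.Agent.Tits.Roots Cfsg.Agent.Tits.Core
  Cfsg.Agent.Tits.Exchange Cfsg.Agent.Nodes.Reps Cfsg.Agent.Nodes.BNOf Cfsg.Agent.Nodes.StabComb
  Cfsg.Agent.Nodes.Bruhat Cfsg.Agent.Nodes.LeviDec Cfsg.Agent.Nodes.NormalForm
open Cfsg.Lie Cfsg.Agent.ChevalleyStructure Cfsg.Agent.ChevalleyStructure.Elts Cfsg.Agent.Nodes.RGDChev
  Cfsg.Agent.ChevalleyStructure.RootVec Cfsg.Agent.ChevalleyStructure.RootVecTab Cfsg.Agent.ChevalleyStructure.NPerm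
  Cfsg.Agent.ChevalleyStructure.CardComb Cfsg.Agent.ChevalleyStructure.CardBruhat
  Cfsg.Agent.KFacts.RgdDiag

universe u

section

variable {D : ChevalleyDatum} {l : ℕ} {M : CoxeterMatrix (Fin l)} (hp : IsType D l M) {K : Type u} [Field K]
  {W : Type*} [Group W] (cs : CoxeterSystem M W)

include hp

theorem pos_iff_vec {s : ℕ} (hs : s < D.nroots) : D.IsPosRoot s ↔ 0 ≤ vec D l s := by
  rw [RootVec.isPosRoot_iff hp.checked]
  constructor
  · rintro ⟨-, h⟩ i
    exact h i (lt_rank hp i)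
  · intro h
    refine ⟨hs, fun i hi => ?_⟩
    have hi' : i < l := by rw [← hp.rank_eq]; exact hi
    exact h ⟨i, hi'⟩

theorem B_le : RGD.B cs hp.isCartan ((D.diagonalSubgroup K).subgroupOf (D.group K))
    (fun x => (XV D l K x).subgroupOf (D.group K)) ≤ (D.borelSubgroup K).subgroupOf (D.group K) := by
  refine sup_le ?_ (iSup_le ?_)
  · intro g hg
    exact (le_sup_right : D.diagonalSubgroup K ≤ D.borelSubgroup K) hg
  · rintro ⟨x, hx, hx0⟩ g hg
    obtain ⟨r, hr, rfl⟩ := (isRoot_iff hp cs x).1 hx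
    have hg' : (g : GL D.Idx K) ∈ XV D l K (vec D l r) := hg
    rw [XV_vec hp K hr] at hg'
    obtain ⟨t, ht⟩ := (mem_rootSubgroup_iff hp.inList r _).1 hg'
    show (g : GL D.Idx K) ∈ D.borelSubgroup K
    rw [ht]
    exact (le_sup_left : D.posUnipotent K ≤ D.borelSubgroup K)
      (xG_mem_posUnipotent hp.inList ((pos_iff_vec hp hr).2 hx0) t)

theorem card_B_le [Finite K] : Nat.card ↥(RGD.B cs hp.isCartan ((D.diagonalSubgroup K).subgroupOf (D.group K))
    (fun x => (XV D l K x).subgroupOf (D.group K))) ≤ Nat.card (D.borelSubgroup K) := by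
  refine (Subgroup.card_le_of_le (B_le hp cs)).trans ?_
  exact Nat.card_le_card_of_injective (fun g : (D.borelSubgroup K).subgroupOf (D.group K) =>
    (⟨(g : ↥(D.group K)), g.2⟩ : D.borelSubgroup K)) fun a b e =>
      Subtype.ext (Subtype.ext (congrArg (fun z : ↥(D.borelSubgroup K) => (z : GL D.Idx K)) e))

/-- **the criterion for the Chevalley groups** -/
theorem cube_chev [Finite K] (p : ℕ) [Fact p.Prime] [CharP K p] (hc : Comb D) {s N : ℕ}
    (hs : ∀ (σ : Equiv.Perm (Fin l)) (hσ : ∀ i j, M (σ i) (σ j) = M i j),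
      Nat.card {w : M.Group // hat M.toCoxeterSystem σ hσ w = w⁻¹} ≤ s)
    (hN : ∑ᶠ w ∈ (weyl D : Set (Equiv.Perm (Fin D.nroots))), Nat.card K ^ CardComb.inv D w = N)
    (hlt : s ^ 3 * Nat.card (D.group K) < N ^ 3) : CubeBound ↥(D.group K) := by
  have hW : Finite M.Group := finite_W hp M.toCoxeterSystem
  have R := rgd (K := K) hp M.toCoxeterSystem p
  have hG : GG M.toCoxeterSystem hp.isCartan ((D.diagonalSubgroup K).subgroupOf (D.group K))
      (fun x => (XV D l K x).subgroupOf (D.group K)) = ⊤ := by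
    rw [eq_top_iff, ← G1_eq_top hp M.toCoxeterSystem (K := K)]
    exact le_sup_right
  refine cube_of_rgd R hG hs ?_ hlt
  rw [card_group_eq_sum hp.inList hc, hN]
  exact Nat.mul_le_mul_right _ (card_B_le hp _)

end

/-- the numerical criterion -/
theorem lt_of {Y d q0 N s : ℕ} (hcard : d * Y = q0 * N) (hd : 1 ≤ d) (hN : 0 < N) (h : s ^ 3 * q0 < N ^ 2) :
    s ^ 3 * Y < N ^ 3 := by
  have h1 : Y ≤ q0 * N := by
    rw [← hcard]
    exact Nat.le_mul_of_pos_left Y hd
  calc s ^ 3 * Y ≤ s ^ 3 * (q0 * N) := Nat.mul_le_mul_left _ h1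
    _ = s ^ 3 * q0 * N := by ring
    _ < N ^ 2 * N := Nat.mul_lt_mul_of_pos_right h hN
    _ = N ^ 3 := by ring

/-- the product of the `[d]_q` -/
def pq (q : ℕ) (degs : List ℕ) : ℕ := (degs.map fun d => ∑ k ∈ Finset.range d, q ^ k).prod

theorem pow_le_pq {q : ℕ} : ∀ degs : List ℕ, (∀ d ∈ degs, 1 ≤ d) →
    q ^ (degs.map fun d => d - 1).sum ≤ pq q degs := by
  intro degs
  induction degs with
  | nil => intro _; simp [pq]
  | cons a l ih =>
    intro h
    have ha := h a (by simp)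
    have h1 := ih fun d hd => h d (by simp [hd])
    unfold pq at h1 ⊢
    rw [List.map_cons, List.sum_cons, pow_add, List.map_cons, List.prod_cons]
    refine Nat.mul_le_mul ?_ h1
    exact Finset.single_le_sum (f := fun k => q ^ k) (fun _ _ => Nat.zero_le _) (Finset.mem_range.2 (by omega))

theorem crude {q s r N0 : ℕ} {degs : List ℕ} (hq : 2 ≤ q) (hd : ∀ d ∈ degs, 1 ≤ d)
    (hN0 : (degs.map fun d => d - 1).sum = N0) (hr : 1 ≤ r) (h : s ^ 3 * q ^ r ≤ q ^ N0) :
    s ^ 3 * (q ^ N0 * (q - 1) ^ r) < pq q degs ^ 2 := by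
  have h1 := pow_le_pq (q := q) degs hd
  rw [hN0] at h1
  have hq0 : 0 < q := by omega
  rcases Nat.eq_zero_or_pos s with rfl | hs
  · have : 0 < pq q degs := lt_of_lt_of_le (Nat.pow_pos hq0) h1
    rw [zero_pow (by norm_num), zero_mul]
    exact Nat.pow_pos this
  calc s ^ 3 * (q ^ N0 * (q - 1) ^ r) < s ^ 3 * (q ^ N0 * q ^ r) := by
        apply Nat.mul_lt_mul_of_pos_left _ (by positivity)
        apply Nat.mul_lt_mul_of_pos_left _ (by positivity)
        exact Nat.pow_lt_pow_left (by omega) (by omega)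
    _ = q ^ N0 * (s ^ 3 * q ^ r) := by ring
    _ ≤ q ^ N0 * q ^ N0 := Nat.mul_le_mul_left _ h
    _ = (q ^ N0) ^ 2 := by ring
    _ ≤ pq q degs ^ 2 := Nat.pow_le_pow_left h1 2

section

open Cfsg.Agent.ChevalleyStructure.RootComb

theorem cube_of_num {D : ChevalleyDatum} {l : ℕ} {M : CoxeterMatrix (Fin l)} (hp : IsType D l M) {K : Type u} [Field K]
    [Fintype K] (d : ℕ) (degs : List ℕ) {q : ℕ} (hq : Fintype.card K = q)
    (hd : (D, d) ∈ [(chevG2, 1), (chevF4, 1), (chevE8, 1), (chevE6, Nat.gcd 3 (q - 1)),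
      (chevE7, Nat.gcd 2 (q - 1)), (chevB2, Nat.gcd 2 (q - 1)), (chevD4, Nat.gcd 2 (q - 1) ^ 2)])
    (hc : Comb D) (hd1 : 1 ≤ d)
    (hdegs : (D, degs) ∈ [(chevG2, [2, 6]), (chevB2, [2, 4]), (chevD4, [2, 4, 4, 6]),
      (chevF4, [2, 6, 8, 12]), (chevE6, [2, 5, 6, 8, 9, 12]), (chevE7, [2, 6, 8, 10, 12, 14, 18]),
      (chevE8, [2, 8, 12, 14, 18, 20, 24, 30])]) {s : ℕ}
    (hs : ∀ (σ : Equiv.Perm (Fin l)) (hσ : ∀ i j, M (σ i) (σ j) = M i j),
      Nat.card {w : M.Group // hat M.toCoxeterSystem σ hσ w = w⁻¹} ≤ s)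
    (hnum : s ^ 3 * (q ^ (D.nroots / 2) * (q - 1) ^ D.rank) < pq q degs ^ 2) : CubeBound ↥(D.group K) := by
  obtain ⟨p, hpK⟩ := CharP.exists K
  have : Fact p.Prime := ⟨CharP.char_is_prime K p⟩
  have h2 : (∑ᶠ w ∈ (weyl D : Set (Equiv.Perm (Fin D.nroots))), q ^ CardComb.inv D w) = pq q degs :=
    Cfsg.Agent.ChevalleyStructure.WeylPoincare.poincare q (D, degs) hdegs
  have h1 : d * Nat.card (D.group K) = q ^ (D.nroots / 2) * (q - 1) ^ D.rank *
      ∑ᶠ w ∈ (weyl D : Set (Equiv.Perm (Fin D.nroots))), q ^ CardComb.inv D w :=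
    card_group_formula hq (D, d) hd hp.inList hc
  rw [h2] at h1
  refine cube_chev hp p hc hs (N := pq q degs) ?_ (lt_of h1 hd1 ?_ hnum)
  · rw [Nat.card_eq_fintype_card, hq, h2]
  · rcases Nat.eq_zero_or_pos (pq q degs) with h0 | h0
    · rw [h0] at hnum; simp at hnum
    · exact h0

theorem card_le_of_card {l : ℕ} {M : CoxeterMatrix (Fin l)} {s : ℕ} (hs : Nat.card M.Group = s) (hs0 : 0 < s)
    (σ : Equiv.Perm (Fin l)) (hσ : ∀ i j, M (σ i) (σ j) = M i j) :
    Nat.card {w : M.Group // hat M.toCoxeterSystem σ hσ w = w⁻¹} ≤ s := by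
  have : Finite M.Group := Nat.finite_of_card_ne_zero (by omega)
  rw [← hs]
  exact Nat.card_le_card_of_injective _ Subtype.val_injective

theorem pow_le_of {s q q0 k m : ℕ} (hq : q0 ≤ q) (h : s ≤ q0 ^ k) (hm : k ≤ m) (hq0 : 0 < q0) :
    s ≤ q ^ m := h.trans ((Nat.pow_le_pow_left hq k).trans (Nat.pow_le_pow_right (by omega) hm))

theorem crude' {s q q0 r N0 : ℕ} {degs : List ℕ} (hq : 2 ≤ q) (hd : ∀ d ∈ degs, 1 ≤ d)
    (hN0 : (degs.map fun d => d - 1).sum = N0) (hr : 1 ≤ r) (hq0 : q0 ≤ q) (hrN : r ≤ N0)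
    (h : s ^ 3 ≤ q0 ^ (N0 - r)) : s ^ 3 * (q ^ N0 * (q - 1) ^ r) < pq q degs ^ 2 := by
  apply crude hq hd hN0 hr
  have h1 : s ^ 3 ≤ q ^ (N0 - r) := h.trans (Nat.pow_le_pow_left hq0 _)
  calc s ^ 3 * q ^ r ≤ q ^ (N0 - r) * q ^ r := Nat.mul_le_mul_right _ h1
    _ = q ^ N0 := by rw [← pow_add]; congr 1; omega

theorem cube_F4 {K : Type u} [Field K] [Fintype K] : CubeBound ↥(chevF4.group K) := by
  have hq1 : 2 ≤ Fintype.card K := Fintype.one_lt_card
  refine cube_of_num (l := 4) (M := CoxeterMatrix.F₄) (by simp [IsType, typeList]) 1 [2, 6, 8, 12] rfl (by simp)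
    CardComb.comb_F4 le_rfl (by simp) (s := 1152)
    (card_le_of_card (S1092.result (⟨4, CoxeterMatrix.F₄⟩, 1152) (by simp)) (by norm_num)) ?_
  change 1152 ^ 3 * (Fintype.card K ^ 24 * (Fintype.card K - 1) ^ 4) < _
  rcases Nat.lt_or_ge (Fintype.card K) 3 with h | h
  · have h2 : Fintype.card K = 2 := by omega
    rw [h2]
    decide +kernel
  · exact crude' hq1 (by simp) rfl (by norm_num) h (by norm_num) (by norm_num)

theorem cube_E6 {K : Type u} [Field K] [Fintype K] : CubeBound ↥(chevE6.group K) := by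
  have hq1 : 2 ≤ Fintype.card K := Fintype.one_lt_card
  refine cube_of_num (l := 6) (M := CoxeterMatrix.E₆) (by simp [IsType, typeList]) (Nat.gcd 3 (Fintype.card K - 1))
    [2, 5, 6, 8, 9, 12] rfl (by simp) (CardCombAll.comb_of_mem (by simp)) (Nat.gcd_pos_of_pos_left _ (by norm_num)) (by simp) (s := 51840)
    (card_le_of_card (S1093.result (⟨6, CoxeterMatrix.E₆⟩, 51840) (by simp)) (by norm_num)) ?_
  change 51840 ^ 3 * (Fintype.card K ^ 36 * (Fintype.card K - 1) ^ 6) < _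
  rcases Nat.lt_or_ge (Fintype.card K) 3 with h | h
  · have h2 : Fintype.card K = 2 := by omega
    rw [h2]
    decide +kernel
  · exact crude' hq1 (by simp) rfl (by norm_num) h (by norm_num) (by norm_num)

theorem cube_E7 {K : Type u} [Field K] [Fintype K] : CubeBound ↥(chevE7.group K) := by
  have hq1 : 2 ≤ Fintype.card K := Fintype.one_lt_card
  refine cube_of_num (l := 7) (M := CoxeterMatrix.E₇) (by simp [IsType, typeList]) (Nat.gcd 2 (Fintype.card K - 1))
    [2, 6, 8, 10, 12, 14, 18] rfl (by simp) (CardCombAll.comb_of_mem (by simp)) (Nat.gcd_pos_of_pos_left _ (by norm_num)) (by simp)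
    (s := 2903040)
    (card_le_of_card (S1093.result (⟨7, CoxeterMatrix.E₇⟩, 2903040) (by simp)) (by norm_num)) ?_
  change 2903040 ^ 3 * (Fintype.card K ^ 63 * (Fintype.card K - 1) ^ 7) < _
  rcases Nat.lt_or_ge (Fintype.card K) 3 with h | h
  · have h2 : Fintype.card K = 2 := by omega
    rw [h2]
    decide +kernel
  · exact crude' hq1 (by simp) rfl (by norm_num) h (by norm_num) (by norm_num)

theorem cube_E8 {K : Type u} [Field K] [Fintype K] : CubeBound ↥(chevE8.group K) := by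
  have hq1 : 2 ≤ Fintype.card K := Fintype.one_lt_card
  refine cube_of_num (l := 8) (M := CoxeterMatrix.E₈) (by simp [IsType, typeList]) 1
    [2, 8, 12, 14, 18, 20, 24, 30] rfl (by simp) (CardCombAll.comb_of_mem (by simp)) le_rfl (by simp) (s := 696729600)
    (card_le_of_card (S1093.result (⟨8, CoxeterMatrix.E₈⟩, 696729600) (by simp)) (by norm_num)) ?_
  change 696729600 ^ 3 * (Fintype.card K ^ 120 * (Fintype.card K - 1) ^ 8) < _
  exact crude' hq1 (by simp) rfl (by norm_num) hq1 (by norm_num) (by norm_num)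

end

end Cfsg.Agent.H383.Cube.Chev
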