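import Cfsg.Agent.H819.CubeGen
import Cfsg.Agent.H830.OutInv22
import Cfsg.Agent.H833.SixEnd
import Cfsg.Agent.H836.EightMain
import Cfsg.Agent.H836.Facts
import Cfsg.Agent.LThreeFi22.Inst

/-!
# `CubeBound` for `Fi22` (helper819; this copy uses `SixEnd.card_Ct`)
-/

set_option autoImplicit false

namespace Cfsg.Agent.H383.Cube.FiTT

open Subgroup Cfsg Cfsg.Agent.H383.Cube Cfsg.Agent.H819.CubeGen
open Cfsg.Agent.H833.Flip (flipA flipA_gen flipA_flipA)
open Cfsg.Agent.Fischer.Fi22PtsRep (gen gen_sq)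
open Cfsg.Agent.R01.FiFusion (Tri)
open Cfsg.Agent.LThreeFi22 (Ctx)

universe v

section ctx

variable {K : Type v} [Group K] {T : Set K} (C : Ctx K T)
include C

theorem finite : Finite K := Nat.finite_of_card_ne_zero (by rw [C.card]; norm_num)

theorem card_one {a : K} (ha : a ∈ T) : 18393661440 ≤ Nat.card ↥(centralizer ({a} : Set K)) := by
  have := finite C
  have h := card_le_orbit (⊤ : Subgroup K) a T (fun m _ => C.conj a ha m)
  rw [C.ncard, top_inf_eq, Nat.card_congr (topEquiv (G := K)).toEquiv, C.card] at h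
  omega

theorem card_two {a b : K} (ha : a ∈ T) (hb : b ∈ T) (hab : a ≠ b) (cab : a * b = b * a) :
    26542080 ≤ Nat.card ↥(centralizer ({a} : Set K) ⊓ centralizer ({b} : Set K)) := by
  have := finite C
  have h := card_le_orbit (centralizer ({a} : Set K)) b {c | c ∈ T ∧ c ≠ a ∧ a * c = c * a} (by
    intro m hm
    rw [mem_centralizer_singleton_iff] at hm
    have e : m * a * m⁻¹ = a := by rw [hm]; group
    refine ⟨C.conj b hb m, ?_, ?_⟩
    · intro h
      apply hab
      have h2 : m * b * m⁻¹ = m * a * m⁻¹ := by rw [h, e]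
      exact (mul_left_cancel (mul_right_cancel h2)).symm
    · calc a * (m * b * m⁻¹) = m * a * m⁻¹ * (m * b * m⁻¹) := by rw [e]
        _ = m * (a * b) * m⁻¹ := by group
        _ = m * (b * a) * m⁻¹ := by rw [cab]
        _ = m * b * m⁻¹ * (m * a * m⁻¹) := by group
        _ = m * b * m⁻¹ * a := by rw [e])
  rw [C.link a ha] at h
  have h1 := card_one C ha
  omega

/-- the elements fixing or interchanging `a` and `b` -/
def pairStab (a b : K) : Subgroup K where
  carrier := {g | (g * a * g⁻¹ = a ∧ g * b * g⁻¹ = b) ∨ (g * a * g⁻¹ = b ∧ g * b * g⁻¹ = a)}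
  mul_mem' := by
    intro g h hg hh
    have e : ∀ x : K, g * h * x * (g * h)⁻¹ = g * (h * x * h⁻¹) * g⁻¹ := fun x => by group
    rcases hh with ⟨h1, h2⟩ | ⟨h1, h2⟩ <;> rcases hg with ⟨h3, h4⟩ | ⟨h3, h4⟩ <;>
      simp only [Set.mem_ofPred_eq, e, h1, h2, h3, h4, and_self, true_or, or_true]
  one_mem' := by left; constructor <;> group
  inv_mem' := by
    intro g hg
    have key : ∀ x y : K, g * x * g⁻¹ = y → g⁻¹ * y * g⁻¹⁻¹ = x := by
      intro x y h
      rw [← h]; group
    rcases hg with ⟨h1, h2⟩ | ⟨h1, h2⟩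
    · exact Or.inl ⟨key _ _ h1, key _ _ h2⟩
    · exact Or.inr ⟨key _ _ h2, key _ _ h1⟩

theorem card_pair {a b : K} (ha : a ∈ T) (hb : b ∈ T) (hab : a ≠ b) (cab : a * b = b * a) :
    53084160 ≤ Nat.card ↥(pairStab a b) := by
  have := finite C
  have h1 := card_two C ha hb hab cab
  have hle : centralizer ({a} : Set K) ⊓ centralizer ({b} : Set K) ≤ pairStab a b := by
    rintro x ⟨hx1, hx2⟩
    replace hx1 := mem_centralizer_singleton_iff.1 hx1
    replace hx2 := mem_centralizer_singleton_iff.1 hx2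
    left
    constructor
    · rw [hx1]; group
    · rw [hx2]; group
  obtain ⟨g, hg1, hg2⟩ := C.transC a ha b hb b hb a ha hab hab.symm cab cab.symm
  have hg : g ∈ pairStab a b := Or.inr ⟨hg1, hg2⟩
  have h2 := card_mul_index ((centralizer ({a} : Set K) ⊓ centralizer ({b} : Set K)).subgroupOf (pairStab a b))
  rw [Nat.card_congr (subgroupOfEquivOfLe hle).toEquiv] at h2
  have h3 : ((centralizer ({a} : Set K) ⊓ centralizer ({b} : Set K)).subgroupOf (pairStab a b)).index ≠ 1 := by
    intro h3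
    rw [index_eq_one] at h3
    have h4 : (⟨g, hg⟩ : ↥(pairStab a b)) ∈
        (centralizer ({a} : Set K) ⊓ centralizer ({b} : Set K)).subgroupOf (pairStab a b) := by
      rw [h3]; exact mem_top _
    have h5 : g ∈ centralizer ({a} : Set K) := h4.1
    rw [mem_centralizer_singleton_iff] at h5
    apply hab
    rw [← hg1, h5]; group
  have h4 : ((centralizer ({a} : Set K) ⊓ centralizer ({b} : Set K)).subgroupOf (pairStab a b)).index ≠ 0 :=
    index_ne_zero_of_finite
  have h5 : 2 ≤ ((centralizer ({a} : Set K) ⊓ centralizer ({b} : Set K)).subgroupOf (pairStab a b)).index := by omega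
  calc 53084160 = 26542080 * 2 := by norm_num
    _ ≤ _ := Nat.mul_le_mul h1 h5
    _ = _ := h2

theorem card_three {a b c : K} (h : Tri T a b c) :
    76600 ≤ Nat.card ↥(centralizer ({a * b * c} : Set K)) := by
  have := finite C
  have h0 := card_le_orbit (pairStab a b) c {x | x ∈ T ∧ x ≠ a ∧ a * x = x * a} (by
    intro m hm
    have key : ∀ x, m * x * m⁻¹ = a → c ≠ x → x * c = c * x → m * c * m⁻¹ ≠ a ∧ a * (m * c * m⁻¹) = m * c * m⁻¹ * a := by
      intro x h1 h2 h3
      constructor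
      · intro h4
        apply h2
        have h5 : m * c * m⁻¹ = m * x * m⁻¹ := by rw [h4, h1]
        exact mul_left_cancel (mul_right_cancel h5)
      · calc a * (m * c * m⁻¹) = m * x * m⁻¹ * (m * c * m⁻¹) := by rw [h1]
          _ = m * (x * c) * m⁻¹ := by group
          _ = m * (c * x) * m⁻¹ := by rw [h3]
          _ = m * c * m⁻¹ * (m * x * m⁻¹) := by group
          _ = m * c * m⁻¹ * a := by rw [h1]
    refine ⟨C.conj c h.mw m, ?_⟩
    rcases hm with ⟨h1, -⟩ | ⟨-, h1⟩
    · exact key a h1 h.xw.symm h.cxw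
    · exact key b h1 h.yw.symm h.cyw)
  rw [C.link a h.mx] at h0
  have h1 := card_pair C h.mx h.my h.xy h.cxy
  have h2 : 76600 ≤ Nat.card ↥(pairStab a b ⊓ centralizer ({c} : Set K)) := by omega
  refine h2.trans (card_le_of_le ?_)
  rintro x ⟨hx1, hx2⟩
  replace hx2 := mem_centralizer_singleton_iff.1 hx2
  rw [mem_centralizer_singleton_iff]
  have hx3 : x * c * x⁻¹ = c := by rw [hx2]; group
  have h3 : x * (a * b * c) * x⁻¹ = (x * a * x⁻¹) * (x * b * x⁻¹) * (x * c * x⁻¹) := by group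
  rw [hx3] at h3
  rcases hx1 with ⟨h4, h5⟩ | ⟨h4, h5⟩
  · rw [h4, h5] at h3
    exact mul_inv_eq_iff_eq_mul.1 h3
  · rw [h4, h5, ← h.cxy] at h3
    exact mul_inv_eq_iff_eq_mul.1 h3

end ctx

theorem card_inner (t : Cfsg.Spor.Fi22) (ht : orderOf t = 2) :
    76600 ≤ Nat.card ↥(centralizer ({t} : Set Cfsg.Spor.Fi22)) := by
  have I := Cfsg.Agent.H836.inv_of_iso (MulEquiv.refl Cfsg.Spor.Fi22)
  have C := I.ctx
  have := finite C
  have tt : t * t = 1 := by rw [← pow_two, ← ht, pow_orderOf_eq_one]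
  rcases I.inv t tt with rfl | h | ⟨a, ha, b, hb, hab, cab, rfl⟩ | ⟨a, b, c, h, rfl⟩
  · rw [orderOf_one] at ht; omega
  · have := card_one C h
    omega
  · have h1 := card_two C ha hb hab cab
    have h2 : 76600 ≤ Nat.card ↥(centralizer ({a} : Set Cfsg.Spor.Fi22) ⊓ centralizer ({b} : Set Cfsg.Spor.Fi22)) := by
      omega
    refine h2.trans (card_le_of_le ?_)
    rintro x ⟨hx1, hx2⟩
    replace hx1 := mem_centralizer_singleton_iff.1 hx1
    replace hx2 := mem_centralizer_singleton_iff.1 hx2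
    rw [mem_centralizer_singleton_iff]
    rw [← mul_assoc, hx1, mul_assoc, hx2, mul_assoc]
  · exact card_three C h

open Cfsg.Agent.H836.EightPts (Cs mem_Cs)

theorem flip_d : flipA (gen .d) = gen .d := by rw [flipA_gen]; rfl

theorem card_flip_d : 297747 ≤ Nat.card {x : Cfsg.Spor.Fi22 // (flipA * MulAut.conj (gen .d)) x = x} := by
  have I := Cfsg.Agent.H836.inv_of_iso (MulEquiv.refl Cfsg.Spor.Fi22)
  have C := I.ctx
  have := finite C
  have hd : gen .d ∈ Cfsg.Agent.KFacts.FiTT.TK (MulEquiv.refl Cfsg.Spor.Fi22) :=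
    ⟨gen .d, Cfsg.Agent.R01.Fi22Facts.gen_mem .d, rfl⟩
  have h := card_le_orbit Cs (gen .d) _ (fun m _ => C.conj _ hd m)
  rw [C.ncard, Cfsg.Agent.H836.EightMain.card_Cs] at h
  have h1 : 297747 ≤ Nat.card ↥(Cs ⊓ centralizer ({gen .d} : Set Cfsg.Spor.Fi22)) := by omega
  refine h1.trans (card_le_fix _ ?_)
  rintro x ⟨hx1, hx2⟩
  replace hx2 := mem_centralizer_singleton_iff.1 hx2
  change flipA (gen .d * x * (gen .d)⁻¹) = x
  rw [← hx2, mul_inv_cancel_right]
  exact hx1

theorem card_flip_di : 3317760 ≤ Nat.card {x : Cfsg.Spor.Fi22 // (flipA * MulAut.conj (gen .d * gen .i)) x = x} := by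
  have := Cfsg.Agent.R01.Fi22Facts.finite
  rw [← Cfsg.Agent.H833.SixEnd.card_Ct]
  exact card_le_fix _ fun x hx => Cfsg.Agent.H833.SixPts.mem_Ct.1 hx

theorem cube_fi22 : CubeBound Cfsg.Spor.Fi22 := by
  have I := Cfsg.Agent.H836.inv_of_iso (MulEquiv.refl Cfsg.Spor.Fi22)
  have C := I.ctx
  have := finite C
  refine cube_of ?_ ?_ ?_
  · intro t ht
    rw [C.card]
    calc 64561751654400 < 76600 ^ 3 := by norm_num
      _ ≤ _ := Nat.pow_le_pow_left (card_inner t ht) 3
  · exact fun t h => Cfsg.Agent.StdFi22.MainFi22.center_eq t h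
  · intro α hα hne
    have h := Cfsg.Agent.H830.OutInv22.outer_inv α hα (by
      rintro ⟨g, hg⟩
      exact hne g hg.symm)
    rw [C.card]
    have key : 76600 ≤ Nat.card {x : Cfsg.Spor.Fi22 // α x = x} := by
      rcases h with h | h | h
      · rw [card_fix_congr h]
        have : 76600 ≤ Nat.card ↥Cs := by rw [Cfsg.Agent.H836.EightMain.card_Cs]; norm_num
        exact this.trans (card_le_fix Cs fun x hx => hx)
      · rw [card_fix_congr h]
        exact card_flip_d.trans' (by norm_num)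
      · rw [card_fix_congr h]
        exact card_flip_di.trans' (by norm_num)
    calc 64561751654400 < 76600 ^ 3 := by norm_num
      _ ≤ _ := Nat.pow_le_pow_left key 3

theorem cube_Fi22 {G : Type*} [Group G] (h : Cfsg.Spor.IsoFi22 G) : CubeBound G := by
  obtain ⟨e⟩ := h
  exact CubeBound.congr e.symm cube_fi22

end Cfsg.Agent.H383.Cube.FiTT
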