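import Cfsg.Agent.H383.Cube.Chev
import Cfsg.Agent.S1094

set_option autoImplicit false
set_option linter.unusedSectionVars false

namespace Cfsg.Agent.H383.Cube.Chev

open Cfsg CoxeterSystem Cfsg.Agent.ChevalleyStructure.CoxeterGeom Cfsg.Agent.Tits.Roots
open Cfsg.Lie Cfsg.Agent.ChevalleyStructure Cfsg.Agent.Nodes.RGDChev Cfsg.Agent.KFacts.RgdDiag

universe u

theorem card_add_le {W : Type*} [Finite W] {P : W → Prop} {k : ℕ} (f : Fin k → W) (hf : Function.Injective f)
    (hP : ∀ i, ¬ P (f i)) : Nat.card {w : W // P w} + k ≤ Nat.card W := by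
  have h1 : Nat.card ({w : W // P w} ⊕ Fin k) ≤ Nat.card W := by
    refine Nat.card_le_card_of_injective (Sum.elim (fun w => w.1) f) ?_
    rintro (a | a) (b | b) e
    · exact congrArg _ (Subtype.ext e)
    · have e' : a.1 = f b := e
      exact absurd (e' ▸ a.2) (hP b)
    · have e' : f a = b.1 := e
      exact absurd (e'.symm ▸ b.2) (hP a)
    · exact congrArg _ (hf e)
  rwa [Nat.card_sum, Nat.card_eq_fintype_card (α := Fin k), Fintype.card_fin] at h1

theorem card_G2 (σ : Equiv.Perm (Fin 2)) (hσ : ∀ i j, CoxeterMatrix.G₂ (σ i) (σ j) = CoxeterMatrix.G₂ i j) :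
    Nat.card {w : CoxeterMatrix.G₂.Group // hat CoxeterMatrix.G₂.toCoxeterSystem σ hσ w = w⁻¹} ≤ 8 := by
  set cs := CoxeterMatrix.G₂.toCoxeterSystem with hcs
  have hc : Nat.card CoxeterMatrix.G₂.Group = 12 := S1092.result (⟨2, CoxeterMatrix.G₂⟩, 12) (by simp)
  have hfin : Finite CoxeterMatrix.G₂.Group := Nat.finite_of_card_ne_zero (by omega)
  have hs : ∀ i, cs.simple i = CoxeterMatrix.G₂.simple i := fun i => rfl
  have ho : orderOf (cs.simple 0 * cs.simple 1) = 6 := by
    have h1 := S1094.result (⟨2, CoxeterMatrix.G₂⟩, 6) (by simp)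
    rw [hs, hs]
    have h2 : ((List.finRange 2).map CoxeterMatrix.G₂.simple).prod =
        CoxeterMatrix.G₂.simple 0 * CoxeterMatrix.G₂.simple 1 := by
      have : List.finRange 2 = [0, 1] := by decide
      rw [this]
      simp
    rw [← h2]
    exact h1
  set a := cs.simple 0 with ha
  set b := cs.simple 1 with hb
  have haa : a * a = 1 := cs.simple_mul_simple_self 0
  have hbb : b * b = 1 := cs.simple_mul_simple_self 1
  have hai : a⁻¹ = a := inv_eq_of_mul_eq_one_right haa
  have hbi : b⁻¹ = b := inv_eq_of_mul_eq_one_right hbb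
  have hpow : ∀ k : ℕ, (a * b) ^ k = 1 ↔ 6 ∣ k := fun k => by rw [← ho, orderOf_dvd_iff_pow_eq_one]
  have hperm : ∀ τ : Equiv.Perm (Fin 2), τ = 1 ∨ τ = Equiv.swap 0 1 := by decide
  rcases hperm σ with h | h
  · have hid : ∀ w, hat cs σ hσ w = w := by
      intro w
      have : hat cs σ hσ = MonoidHom.id _ := by
        apply cs.ext_simple
        intro i
        rw [hat_simple, h]
        rfl
      rw [this]
      rfl
    have h1 := card_add_le (P := fun w : CoxeterMatrix.G₂.Group => hat cs σ hσ w = w⁻¹)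
      (![a * b, (a * b) ^ 2, (a * b) ^ 4, (a * b) ^ 5]) ?_ ?_
    · omega
    · intro i j hij
      have key : ∀ m n : ℕ, m < 6 → n < 6 → (a * b) ^ m = (a * b) ^ n → m = n := by
        intro m n hm hn e
        exact pow_injOn_Iio_orderOf (by simpa [ho] using hm) (by simpa [ho] using hn) e
      let g : Fin 4 → ℕ := ![1, 2, 4, 5]
      have hg : ∀ i, (![a * b, (a * b) ^ 2, (a * b) ^ 4, (a * b) ^ 5] : Fin 4 → _) i = (a * b) ^ g i := by
        intro i
        fin_cases i <;> simp [g]
      rw [hg, hg] at hij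
      have h2 : ∀ i, g i < 6 := by decide
      have h3 : ∀ i j, g i = g j → i = j := by decide
      exact h3 _ _ (key _ _ (h2 i) (h2 j) hij)
    · intro i
      rw [hid]
      let g : Fin 4 → ℕ := ![1, 2, 4, 5]
      have hg : ∀ i, (![a * b, (a * b) ^ 2, (a * b) ^ 4, (a * b) ^ 5] : Fin 4 → _) i = (a * b) ^ g i := by
        intro i
        fin_cases i <;> simp [g]
      rw [hg]
      intro e
      have h2 : (a * b) ^ (g i + g i) = 1 := by
        rw [pow_add]
        nth_rewrite 1 [e]
        exact inv_mul_cancel _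
      rw [hpow] at h2
      have h3 : ∀ i, ¬ 6 ∣ g i + g i := by decide
      exact h3 i h2
  · have ha' : hat cs σ hσ a = b := by
      rw [ha, hat_simple, h]
      rfl
    have hb' : hat cs σ hσ b = a := by
      rw [hb, hat_simple, h]
      rfl
    have hr : ∀ k : ℕ, hat cs σ hσ ((a * b) ^ k * a) = ((a * b) ^ k * a)⁻¹ → 6 ∣ 2 * k + 1 := by
      intro k e
      rw [← hpow]
      rw [map_mul, map_pow, map_mul, ha', hb'] at e
      -- (b a)^k b = a⁻¹ (b⁻¹ a⁻¹)^k = a (b a)^k = (a b)^k a
      have h1 : (b * a) ^ k = ((a * b) ^ k)⁻¹ := by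
        rw [← inv_pow, mul_inv_rev, hai, hbi]
      rw [h1, mul_inv_rev, hai] at e
      -- (ab)^-k b = a (ab)^-k
      have h2 : a * ((a * b) ^ k)⁻¹ = (a * b) ^ k * a := by
        have h3 : a * (a * b) * a = (a * b)⁻¹ := by rw [mul_inv_rev, hai, hbi, ← mul_assoc, haa, one_mul]
        have h4 : a * (a * b) ^ k * a = ((a * b) ^ k)⁻¹ := by
          have h5 : a * (a * b) ^ k * a⁻¹ = (a * (a * b) * a⁻¹) ^ k := (conj_pow).symm
          rw [hai] at h5
          rw [h5, h3, inv_pow]
        rw [← h4]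
        calc a * (a * (a * b) ^ k * a) = (a * a) * (a * b) ^ k * a := by group
          _ = (a * b) ^ k * a := by rw [haa, one_mul]
      rw [h2] at e
      have h6 : b = (a * b) ^ k * ((a * b) ^ k * a) := by rw [← e]; group
      calc (a * b) ^ (2 * k + 1) = (a * b) ^ k * (a * b) ^ k * (a * b) := by rw [two_mul, pow_add, pow_add, pow_one]
        _ = ((a * b) ^ k * ((a * b) ^ k * a)) * b := by group
        _ = b * b := by rw [← h6]
        _ = 1 := hbb
    have h1 := card_add_le (P := fun w : CoxeterMatrix.G₂.Group => hat cs σ hσ w = w⁻¹)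
      (fun i : Fin 4 => (a * b) ^ (i : ℕ) * a) ?_ ?_
    · omega
    · intro i j hij
      have h2 : (a * b) ^ (i : ℕ) = (a * b) ^ (j : ℕ) := mul_right_cancel hij
      exact Fin.ext (pow_injOn_Iio_orderOf (by simp [ho]; omega) (by simp [ho]; omega) h2)
    · intro i e
      have := hr i e
      omega

theorem cube_G2 {K : Type u} [Field K] [Fintype K] (hK : 3 ≤ Fintype.card K) : CubeBound ↥(chevG2.group K) := by
  have hq1 : 2 ≤ Fintype.card K := Fintype.one_lt_card
  refine cube_of_num (l := 2) (M := CoxeterMatrix.G₂) (by simp [IsType, typeList]) 1 [2, 6] rfl (by simp)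
    CardComb.comb_G2 le_rfl (by simp) (s := 8) card_G2 ?_
  change 8 ^ 3 * (Fintype.card K ^ 6 * (Fintype.card K - 1) ^ 2) < _
  rcases Nat.lt_or_ge (Fintype.card K) 5 with h | h
  · have h2 : Fintype.card K = 3 ∨ Fintype.card K = 4 := by omega
    rcases h2 with h2 | h2 <;> rw [h2] <;> decide +kernel
  · exact crude' hq1 (by simp) rfl (by norm_num) h (by norm_num) (by norm_num)

end Cfsg.Agent.H383.Cube.Chev
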