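import Mathlib
import Cfsg.Agent.H383.Cube.TorWitt
import Cfsg.Agent.H383.Cube.Classical
import Cfsg.Agent.S0822

/-!
# The bound `|T| < |C_T(α)| ^ 3` for the small classical groups (helper383, S5721)

`PSU_3(q)`, `q = 3, 4, 7`; `PSp_4(q)`, `q = 3, 4, 5, 8`; `PSU_4(4)`, `PSU_4(2)`.
-/

set_option autoImplicit false
set_option linter.unusedSectionVars false

namespace Cfsg.Agent.H383.Cube.Small

open Cfsg
open CoxeterSystem Cfsg.Agent.ChevalleyStructure.CoxeterGeom Cfsg.Agent.Tits.Roots Cfsg.Agent.Tits.Core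
  Cfsg.Agent.Nodes.Comb Cfsg.Agent.Nodes.Reps Cfsg.Agent.Nodes.BNOf
  Cfsg.Agent.Nodes.RGDLib Cfsg.Agent.Nodes.Bruhat Cfsg.Agent.KFacts.RgdDiag
open Cfsg.Agent.Nodes Cfsg.Agent.Nodes.WittAll Cfsg.Agent.Nodes.WittU Cfsg.Agent.Nodes.WittInst
  Cfsg.Agent.Nodes.WittRoot Cfsg.Agent.Nodes.CardWitt Cfsg.Agent.Nodes.CardSup
  Cfsg.Agent.TitsThree Cfsg.Agent.TitsThree.Siegel Cfsg.Agent.TitsThree.SiegelGen
  Cfsg.Agent.TitsThree.WittFrame Cfsg.Agent.TitsThree.WBridge Cfsg.Agent.TitsThree.WittWeyl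
  Cfsg.Agent.TitsThree.FrameCN Cfsg.Agent.Nodes.TypeC Cfsg.Agent.Nodes.WittRGD
open Cfsg.Agent.LieClassical.HermBasic Cfsg.Agent.TitsThree.KSideU

section Unitary

variable {F : Type*} [Field F] [Fintype F] {q : ℕ}

/-- the norm is not constant -/
theorem exists_norm_ne (hF : Fintype.card F = q ^ 2) (hq : 3 ≤ q) (N0 : F) : ∃ c : F, c ≠ 0 ∧ c * c ^ q ≠ N0 := by
  by_contra hcon
  push Not at hcon
  have h1 : (1 : F) * 1 ^ q = N0 := hcon 1 one_ne_zero
  have h2 : N0 = 1 := by rw [← h1, one_pow, one_mul]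
  subst h2
  have h3 := card_norm_eq_one hF
  have h4 : Nat.card Fˣ ≤ Nat.card {x : F // x * x ^ q = 1} :=
    Nat.card_le_card_of_injective (fun u : Fˣ => (⟨u, hcon u u.ne_zero⟩ : {x : F // x * x ^ q = 1}))
      fun u v e => Units.ext (congrArg Subtype.val e)
  rw [h3, card_units_eq hF] at h4
  nlinarith [Nat.sub_add_cancel (show 1 ≤ q by omega)]

/-- **`PSU_3(q)`, refined** -/
theorem cube_psu_three_of (hF : Fintype.card F = q ^ 2) (hq : 3 ≤ q) {p l : ℕ} [Fact p.Prime] [CharP F p]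
    (hl : l = 2 ∨ (p = 2 ∧ l = 3))
    (hlt : (2 * (l + 1)) ^ 3 * Nat.card (PSU 3 F q) < (2 * l * (1 + q ^ 3)) ^ 3) : CubeBound (PSU 3 F q) := by
  obtain ⟨W, d, hd, hW⟩ := exists_wframe_odd hF (N := 3) (m := 1) rfl
  obtain ⟨p0, hp0, -⟩ := exists_adm hF W
  have := Omega.ML.Ex.Typ.finite_adm (toFrame W)
  have hfin : Finite (PSU 3 F q) := by infer_instance
  have hd0 : d ≠ 0 := by
    rintro rfl
    rw [herm_zero_left] at hd
    exact zero_ne_one hd
  have hdV : d ∈ (toFrame W).V0 := by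
    change d ∈ W.V0
    rw [hW]
    exact Submodule.mem_span_singleton_self d
  have hspan : ∀ v ∈ (toFrame W).V0, ∃ a : F, v = a • d := by
    intro v hv
    change v ∈ W.V0 at hv
    rw [hW, Submodule.mem_span_singleton] at hv
    obtain ⟨a, ha⟩ := hv
    exact ⟨a, ha.symm⟩
  have hnorm : ∀ a : F, hermForm 3 F q (a • d) (a • d) = a * a ^ q := by
    intro a
    have h1 : (HU hF 3).h (a • d) (a • d) = a * (HU hF 3).σ a * (HU hF 3).h d d := by
      rw [(HU hF 3).smul_left, (HU hF 3).smul_right]; ring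
    have h2 : (HU hF 3).h d d = 1 := hd
    rw [h2, mul_one] at h1
    exact h1
  -- another admissible pair
  obtain ⟨c, hc0, hc⟩ := exists_norm_ne hF hq (p0.c * p0.c ^ q)
  obtain ⟨a, ha⟩ := exists_norm_eq hF (c := -(c + c ^ q)) (by rw [neg_pow_q hF, trace_pow_q hF])
  have hok : (PU hF 3).ok (a • d) c := by
    rw [ok_iff, hnorm, ha, _root_.neg_neg]
  let pa : (toFrame W).Adm := ⟨a • d, c, Submodule.smul_mem _ _ hdV, hok⟩
  have hcard : q ^ 3 ≤ Nat.card (toFrame W).Adm := by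
    have h1 : Nat.card (Σ a : F, {s : F // s + s ^ q = -hermForm 3 F q (a • d) (a • d)}) = q ^ 3 := by
      rw [Nat.card_sigma, Finset.sum_congr rfl (g := fun _ => q), Finset.sum_const, Finset.card_univ, hF,
        smul_eq_mul, ← pow_succ]
      intro a _
      exact ClassicalGeometry.HermLines.card_trace_eq hF (by rw [neg_pow_q hF, herm_self_pow hF])
    refine h1.ge.trans ?_
    refine Nat.card_le_card_of_injective
      (fun x : Σ a : F, {s : F // s + s ^ q = -hermForm 3 F q (a • d) (a • d)} =>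
        (⟨x.1 • d, x.2.1, Submodule.smul_mem _ _ hdV, x.2.2⟩ : (toFrame W).Adm)) ?_
    rintro ⟨a, s, hs⟩ ⟨b, t, ht⟩ e
    have e1 : a • d = b • d := congrArg Frame.Adm.w e
    have e2 : s = t := congrArg Frame.Adm.c e
    obtain rfl : a = b := smul_left_injective F hd0 e1
    subst e2
    rfl
  refine TorWitt.cube_wit_one (KInstU.model hF le_rfl W) (amb_U hF W) hp0 hspan hdV hd0 (pa := pa) (pb := p0) hc0 hp0 hc hl
    (a := 1) (b := q ^ 3) ?_ hcard ?_
  · exact Nat.card_pos
  · rw [Classical.NB_one, Classical.sB_one]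
    exact hlt

theorem charP_of (hF : Fintype.card F = q ^ 2) {r k : ℕ} (hr : r.Prime) (hq : q = r ^ k) : CharP F r := by
  obtain ⟨p, hp⟩ := CharP.exists F
  have hpp : p.Prime := CharP.char_is_prime F p
  obtain ⟨n, -, hn⟩ := FiniteField.card F p
  rw [hF, hq, ← pow_mul] at hn
  have h1 : p ∣ r ^ (k * 2) := by rw [hn]; exact dvd_pow_self _ n.ne_zero
  have h2 := (Nat.prime_dvd_prime_iff_eq hpp hr).1 (hpp.dvd_of_dvd_pow h1)
  rwa [← h2]

theorem cube_psu_three_three (hF : Fintype.card F = 3 ^ 2) : CubeBound (PSU 3 F 3) := by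
  have : CharP F 3 := charP_of hF (k := 1) Nat.prime_three (by norm_num)
  have : Fact (Nat.Prime 3) := ⟨Nat.prime_three⟩
  refine cube_psu_three_of hF (by norm_num) (p := 3) (l := 2) (Or.inl rfl) ?_
  have h1 := Classical.card_psu_three hF
  norm_num at h1 ⊢
  omega

theorem cube_psu_three_four (hF : Fintype.card F = 4 ^ 2) : CubeBound (PSU 3 F 4) := by
  have : CharP F 2 := charP_of hF (k := 2) Nat.prime_two (by norm_num)
  have : Fact (Nat.Prime 2) := ⟨Nat.prime_two⟩
  refine cube_psu_three_of hF (by norm_num) (p := 2) (l := 3) (Or.inr ⟨rfl, rfl⟩) ?_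
  have h1 := Classical.card_psu_three hF
  norm_num at h1 ⊢
  omega

theorem cube_psu_three_seven (hF : Fintype.card F = 7 ^ 2) : CubeBound (PSU 3 F 7) := by
  have h7 : Nat.Prime 7 := by norm_num
  have : CharP F 7 := charP_of hF (k := 1) h7 (by norm_num)
  have : Fact (Nat.Prime 7) := ⟨h7⟩
  refine cube_psu_three_of hF (by norm_num) (p := 7) (l := 2) (Or.inl rfl) ?_
  have h1 := Classical.card_psu_three hF
  norm_num at h1 ⊢
  omega

/-- **`PSU_4(4)`** -/
theorem cube_psu_four_four (hF : Fintype.card F = 4 ^ 2) : CubeBound (PSU 4 F 4) := by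
  have : CharP F 2 := charP_of hF (k := 2) Nat.prime_two (by norm_num)
  have : Fact (Nat.Prime 2) := ⟨Nat.prime_two⟩
  obtain ⟨W, hW⟩ := exists_wframe_even hF (N := 4) (m := 2) rfl
  obtain ⟨p0, hp0, -⟩ := exists_adm hF W
  have := Omega.ML.Ex.Typ.finite_adm (toFrame W)
  have hfin : Finite (PSU 4 F 4) := by infer_instance
  have hspan : ∀ v ∈ (toFrame W).V0, ∃ a : F, v = a • (0 : Fin 4 → F) := by
    intro v hv
    change v ∈ W.V0 at hv
    rw [hW, Submodule.mem_bot] at hv
    exact ⟨0, by rw [hv, smul_zero]⟩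
  have hcard : 4 ≤ Nat.card (toFrame W).Adm := by
    have h0 : (0 : F) ^ 4 = 0 := zero_pow_q hF
    refine (ClassicalGeometry.HermLines.card_trace_eq hF h0).ge.trans ?_
    refine Nat.card_le_card_of_injective (fun c : {s : F // s + s ^ 4 = 0} =>
      (⟨0, c.1, W.V0.zero_mem, ?_⟩ : (toFrame W).Adm)) fun a b e => Subtype.ext (congrArg Frame.Adm.c e)
    rw [ok_iff, herm_zero_left, neg_zero]
    exact c.2
  obtain ⟨a, ha0, ha⟩ := exists_norm_ne hF (by norm_num) 1
  let pa : (toFrame W).Adm := ⟨a • p0.w, _, (toFrame W).ok_smul a p0.ok⟩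
  have hn4 : ∀ x : F, x ^ 4 = 0 → x = 0 := fun x hx => pow_eq_zero_iff (by norm_num) |>.1 hx
  have hpa : pa.c = a * a ^ 4 * p0.c := rfl
  refine TorWitt.cube_wit_two (KInstU.model hF (by norm_num) W) (amb_U hF W) hp0 hspan (Submodule.zero_mem _)
    (pa := pa) (pb := p0) ?_ hp0 ?_ (p := 2) (l := 3) (Or.inr ⟨rfl, rfl⟩) (a := 4 ^ 2) (b := 4) ?_ hcard ?_
  · rw [hpa]
    exact mul_ne_zero (mul_ne_zero ha0 (pow_ne_zero _ ha0)) hp0
  · rw [HU_σ, HU_σ, hpa]
    intro e
    have h1 : (a * a ^ 4) ^ 4 = a * a ^ 4 := norm_pow_q hF a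
    have h2 : (a * a ^ 4) * (a * a ^ 4) * (p0.c * p0.c ^ 4) = 1 * (p0.c * p0.c ^ 4) := by
      calc (a * a ^ 4) * (a * a ^ 4) * (p0.c * p0.c ^ 4) = (a * a ^ 4) * (a * a ^ 4) ^ 4 * (p0.c * p0.c ^ 4) := by rw [h1]
        _ = (a * a ^ 4 * p0.c) * (a * a ^ 4 * p0.c) ^ 4 := by ring
        _ = 1 * (p0.c * p0.c ^ 4) := by rw [e, one_mul]
    have h3 := mul_right_cancel₀ (mul_ne_zero hp0 (pow_ne_zero _ hp0)) h2
    apply ha
    have h4 : (a * a ^ 4 - 1) ^ 2 = 0 := by
      rw [sub_sq, sq, h3]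
      have h5 : (2 : F) = 0 := CharTwo.two_eq_zero
      rw [h5]
      ring_nf
      rw [h5]
    exact sub_eq_zero.1 (pow_eq_zero_iff (by norm_num) |>.1 h4)
  · rw [← hF, Nat.card_eq_fintype_card]
  · have h1 := Classical.card_psu_even (m := 2) (q := 4) hF (by norm_num)
    rw [Finset.prod_range_succ, Finset.prod_range_succ, Finset.prod_range_zero] at h1
    norm_num at h1
    have h2 : Nat.card (PSU 4 F 4) = 1018368000 := by omega
    rw [h2, H807.CubeNum.NB_two, H807.CubeNum.sB_two]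
    norm_num

end Unitary

section Symplectic

variable {F : Type*} [Field F] [Fintype F] {q : ℕ}

/-- **`PSp_4(q)`, refined** -/
theorem cube_psp_two_of (hF : Fintype.card F = q) {p l : ℕ} [Fact p.Prime] [CharP F p]
    (hl : l = 2 ∨ (p = 2 ∧ l = 3)) {c : F} (hc0 : c ≠ 0) (hc : c * c ≠ 1)
    (hlt : (6 * (l + 1)) ^ 3 * Nat.card (PSp 2 F) < (2 * l * NB q q 2) ^ 3) : CubeBound (PSp 2 F) := by
  have := Omega.ML.Ex.Typ.finite_adm (SpIdent.frame 2 F)
  have hfin : Finite (PSp 2 F) := by infer_instance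
  have hspan : ∀ v ∈ (SpIdent.frame 2 F).V0, ∃ a : F, v = a • (0 : _) := by
    intro v hv
    have h1 : v = 0 := (Submodule.mem_bot F).1 hv
    exact ⟨0, by rw [h1, smul_zero]⟩
  have hcard : q ≤ Nat.card (SpIdent.frame 2 F).Adm := by
    rw [← hF, ← Nat.card_eq_fintype_card]
    exact Nat.card_le_card_of_injective (fun c : F => (SpIdent.adm c : (SpIdent.frame 2 F).Adm)) fun a b e =>
      congrArg Frame.Adm.c e
  refine TorWitt.cube_wit_two (KInstSp.model 2 F) amb_Sp (p0 := SpIdent.adm 1) one_ne_zero hspan (Submodule.zero_mem _)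
    (pa := SpIdent.adm c) (pb := SpIdent.adm 1) hc0 one_ne_zero ?_ hl (a := q) (b := q) ?_ hcard ?_
  · change c * (SpIdent.form 2 F).σ c ≠ 1 * (SpIdent.form 2 F).σ 1
    rw [map_one, one_mul]
    exact hc
  · rw [← hF, Nat.card_eq_fintype_card]
  · exact hlt

theorem charP_of' (hF : Fintype.card F = q) {r k : ℕ} (hr : r.Prime) (hq : q = r ^ k) : CharP F r := by
  obtain ⟨p, hp⟩ := CharP.exists F
  have hpp : p.Prime := CharP.char_is_prime F p
  obtain ⟨n, -, hn⟩ := FiniteField.card F p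
  rw [hF, hq] at hn
  have h1 : p ∣ r ^ k := by rw [hn]; exact dvd_pow_self _ n.ne_zero
  have h2 := (Nat.prime_dvd_prime_iff_eq hpp hr).1 (hpp.dvd_of_dvd_pow h1)
  rwa [← h2]

theorem exists_sq_ne (hF : 4 ≤ Fintype.card F) : ∃ c : F, c ≠ 0 ∧ c * c ≠ 1 := by
  classical
  by_contra hcon
  push Not at hcon
  have h1 : (Finset.univ : Finset F) ⊆ {0, 1, -1} := by
    intro x _
    by_cases hx : x = 0
    · simp [hx]
    · have h2 := hcon x hx
      rcases mul_self_eq_one_iff.1 h2 with h3 | h3 <;> simp [h3]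
  have h2 := Finset.card_le_card h1
  rw [Finset.card_univ] at h2
  have h3 : ({0, 1, -1} : Finset F).card ≤ 3 := Finset.card_le_three
  omega

theorem cube_psp_two_four (hF : Fintype.card F = 4) : CubeBound (PSp 2 F) := by
  have : CharP F 2 := charP_of' hF (k := 2) Nat.prime_two (by norm_num)
  have : Fact (Nat.Prime 2) := ⟨Nat.prime_two⟩
  obtain ⟨c, hc0, hc⟩ := exists_sq_ne (F := F) (by omega)
  refine cube_psp_two_of hF (p := 2) (l := 3) (Or.inr ⟨rfl, rfl⟩) hc0 hc ?_
  have h1 := Classical.card_psp_two hF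
  norm_num at h1
  rw [H807.CubeNum.NB_two]
  norm_num
  omega

theorem cube_psp_two_eight (hF : Fintype.card F = 8) : CubeBound (PSp 2 F) := by
  have : CharP F 2 := charP_of' hF (k := 3) Nat.prime_two (by norm_num)
  have : Fact (Nat.Prime 2) := ⟨Nat.prime_two⟩
  obtain ⟨c, hc0, hc⟩ := exists_sq_ne (F := F) (by omega)
  refine cube_psp_two_of hF (p := 2) (l := 3) (Or.inr ⟨rfl, rfl⟩) hc0 hc ?_
  have h1 := Classical.card_psp_two hF
  norm_num at h1
  rw [H807.CubeNum.NB_two]
  norm_num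
  omega

theorem cube_psp_two_five (hF : Fintype.card F = 5) : CubeBound (PSp 2 F) := by
  have h5 : Nat.Prime 5 := by norm_num
  have : CharP F 5 := charP_of' hF (k := 1) h5 (by norm_num)
  have : Fact (Nat.Prime 5) := ⟨h5⟩
  obtain ⟨c, hc0, hc⟩ := exists_sq_ne (F := F) (by omega)
  refine cube_psp_two_of hF (p := 5) (l := 2) (Or.inl rfl) hc0 hc ?_
  have h1 := Classical.card_psp_two hF
  norm_num at h1
  rw [H807.CubeNum.NB_two]
  norm_num
  omega

theorem cube_psp_two_three (hF : Fintype.card F = 3) : CubeBound (PSp 2 F) := by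
  have : CharP F 3 := charP_of' hF (k := 1) Nat.prime_three (by norm_num)
  have : Fact (Nat.Prime 3) := ⟨Nat.prime_three⟩
  have hfin : Finite (PSp 2 F) := by infer_instance
  obtain ⟨A, h, T, nn, X, hW, R, hGG, hX⟩ := H807.CubePar.par_PSp (F := F) (m := 2) le_rfl (p := 3)
  have hX' : ∀ i : Fin 2, (if (i : ℕ) + 1 < 2 then 3 else 3) ≤ Nat.card ↥(X (sr i)) := by
    intro i
    have h1 := hX i
    rw [Nat.card_eq_fintype_card, hF] at h1
    split_ifs <;> exact h1
  have hA : A 0 1 ≠ 0 := by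
    have h4 : CoxeterMatrix.B 2 0 1 = 4 := TorWitt.B_two
    rcases h.rel 0 1 (by decide) with h1 | h1 | h1 | h1
    · have := h1.1; omega
    · have := h1.1; omega
    · rcases h1.2 with h2 | h2 <;> rw [h2.1] <;> norm_num
    · have := h1.1; omega
  have hne := Odd.U_not_comm R (i := 0) (j := 1) (by decide) (by
    rw [rep_simple_eq, sr, pairing_single, mul_one]
    intro e
    have h1 := congrFun e 0
    simp [sr] at h1
    exact hA h1)
  refine Odd.cube_of_odd R (by norm_num) hGG hne (s := 5) (N := NB 3 3 2)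
    (fun σ hσ => H461.CoxB.card_tw_B _ σ hσ) (index_B R hGG hX') ?_
  have h1 := Classical.card_psp_two hF
  norm_num at h1
  rw [H807.CubeNum.NB_two]
  norm_num
  omega

/-- **`PSp_4(q)`** -/
theorem cube_psp_two (hF : 3 ≤ Fintype.card F) : CubeBound (PSp 2 F) := by
  by_cases h3 : Fintype.card F = 3
  · exact cube_psp_two_three h3
  by_cases h4 : Fintype.card F = 4
  · exact cube_psp_two_four h4
  by_cases h5 : Fintype.card F = 5
  · exact cube_psp_two_five h5
  by_cases h8 : Fintype.card F = 8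
  · exact cube_psp_two_eight h8
  by_cases h16 : 16 ≤ Fintype.card F
  · exact Classical.cube_psp_two_even rfl h16
  have hpp := FiniteField.isPrimePow_card F
  generalize hq : Fintype.card F = q at *
  have hodd : Odd q ∧ 7 ≤ q := by
    interval_cases q
    · exact absurd rfl h3
    · exact absurd rfl h4
    · exact absurd rfl h5
    · exact absurd hpp (by decide)
    · decide
    · exact absurd rfl h8
    · decide
    · exact absurd hpp (by decide)
    · decide
    · exact absurd hpp (by decide)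
    · decide
    · exact absurd hpp (by decide)
    · decide
  exact Classical.cube_psp_two_odd hq hodd.2 hodd.1

theorem cube_PSp {m : ℕ} (hm : 2 ≤ m) (h : m = 2 → 3 ≤ Fintype.card F) : CubeBound (PSp m F) := by
  rcases Nat.lt_or_ge m 3 with h3 | h3
  · obtain rfl : m = 2 := by omega
    exact cube_psp_two (h rfl)
  · exact Classical.cube_psp h3

end Symplectic

/-- **`PSU_n(q)`** -/
theorem cube_PSU {F : Type*} [Field F] [Fintype F] {n q : ℕ} (hF : Fintype.card F = q ^ 2) (hn : 3 ≤ n)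
    (h : ¬ (n = 3 ∧ q = 2)) : CubeBound (PSU n F q) := by
  have hq : 2 ≤ q := two_le hF
  have hqp : IsPrimePow q := by
    obtain ⟨p, k, hp, -, hk, hk0⟩ := exists_prime_pow hF
    rw [hk]
    exact hp.isPrimePow.pow hk0.ne'
  by_cases h3 : n = 3
  · subst h3
    by_cases q3 : q = 3
    · subst q3; exact cube_psu_three_three hF
    by_cases q4 : q = 4
    · subst q4; exact cube_psu_three_four hF
    by_cases q7 : q = 7
    · subst q7; exact cube_psu_three_seven hF
    have q6 : q ≠ 6 := by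
      rintro rfl
      exact absurd hqp (by decide)
    have q2 : q ≠ 2 := fun e => h ⟨rfl, e⟩
    exact Classical.cube_psu_three hF (by omega)
  rcases Nat.even_or_odd' n with ⟨m, hm | hm⟩
  · subst hm
    by_cases h2 : m = 2
    · subst h2
      by_cases q2 : q = 2
      · subst q2
        obtain ⟨e⟩ := S0822.result (F := F) (K := ZMod 3) (by rw [hF]; norm_num) (ZMod.card 3)
        exact CubeBound.congr e.symm (cube_psp_two_three (ZMod.card 3))
      by_cases q3 : q = 3
      · subst q3; exact Classical.cube_psu_four_three hF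
      by_cases q4 : q = 4
      · subst q4; exact cube_psu_four_four hF
      exact Classical.cube_psu_even hF le_rfl fun _ => ⟨q2, q3, q4⟩
    · exact Classical.cube_psu_even hF (by omega) fun e => absurd e h2
  · subst hm
    exact Classical.cube_psu_odd hF (by omega)

end Cfsg.Agent.H383.Cube.Small
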