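import Mathlib
import Cfsg.Agent.H383.Cube.DC

/-!
# The criterion with double cosets of Sylow subgroups (helper383, S5721)

* `cube_sylow` : `G = ⋃ U r U` over `c` representatives, `U` Sylow, `(|U| c) ^ 3 < |G| ^ 2`;
* `cube_two_trans` : `G` 2-transitive on the cosets of the normaliser `H` of a Sylow subgroup, `(|H| 2) ^ 3 < |G| ^ 2`.
-/

set_option autoImplicit false

namespace Cfsg.Agent.H383.Cube

open scoped Pointwise

variable {G : Type*} [Group G]

/-- the image of a Sylow subgroup under an automorphism is a conjugate -/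
theorem exists_conj_sylow [Finite G] {p : ℕ} [Fact p.Prime] (S : Sylow p G) (α : MulAut G) :
    ∃ g : G, MulAut.conj g • (S : Subgroup G) = (S : Subgroup G).map α.toMonoidHom := by
  obtain ⟨g, hg⟩ := MulAction.exists_smul_eq G S (α • S)
  refine ⟨g, ?_⟩
  have h1 := congrArg (fun P : Sylow p G => (P : Subgroup G)) hg
  exact h1

theorem cube_of_reps [Finite G] {α : MulAut G} (hα : α * α = 1) (B : Subgroup G) (g : G)
    (hg : ∀ u ∈ B, ∃ c ∈ B, α c = g * u * g⁻¹) {ι : Type*} [Fintype ι] (r : ι → G)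
    (hdec : ∀ x : G, ∃ i, ∃ u ∈ B, ∃ u' ∈ B, x = u * r i * u') :
    Nat.card (Tw α) ≤ Nat.card B * Fintype.card ι := by
  choose d u hu u' hu' hd using fun x : G => hdec (x * g)
  refine card_tw_le hα B d Finset.univ (fun _ _ => Finset.mem_univ _) ?_
  intro x _ y _ hxy
  obtain ⟨c, hc, hc'⟩ := hg ((u' x)⁻¹ * u' y) (mul_mem (inv_mem (hu' x)) (hu' y))
  refine ⟨u y * (u x)⁻¹, mul_mem (hu y) (inv_mem (hu x)), c, hc, ?_⟩
  rw [hc']
  have h1 := hd x
  have h2 := hd y
  rw [← hxy] at h2
  have h3 : r (d x) = (u x)⁻¹ * (x * g) * (u' x)⁻¹ := by rw [h1]; group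
  rw [h3] at h2
  calc y = y * g * g⁻¹ := by group
    _ = u y * ((u x)⁻¹ * (x * g) * (u' x)⁻¹) * u' y * g⁻¹ := by rw [h2]
    _ = u y * (u x)⁻¹ * x * (g * ((u' x)⁻¹ * u' y) * g⁻¹) := by group

/-- the criterion with representatives of the double cosets of a Sylow subgroup -/
theorem cube_sylow [Finite G] {p : ℕ} [Fact p.Prime] (S : Sylow p G) {ι : Type*} [Fintype ι] (r : ι → G)
    (hdec : ∀ x : G, ∃ i, ∃ u ∈ S, ∃ u' ∈ S, x = u * r i * u')
    (hlt : (Nat.card S * Fintype.card ι) ^ 3 < Nat.card G ^ 2) : CubeBound G := by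
  refine CubeBound.of_tw fun α hα => lt_of_le_of_lt (Nat.pow_le_pow_left ?_ 3) hlt
  obtain ⟨g, hg⟩ := exists_conj_sylow S α
  refine cube_of_reps (mul_self_of_order hα) (S : Subgroup G) g ?_ r hdec
  intro u hu
  have h1 : g * u * g⁻¹ ∈ MulAut.conj g • (S : Subgroup G) :=
    Subgroup.smul_mem_pointwise_smul u (MulAut.conj g) (S : Subgroup G) hu
  rw [hg] at h1
  obtain ⟨c, hc, hc'⟩ := h1
  exact ⟨c, hc, hc'⟩

/-- the same with a subgroup of the order of a Sylow subgroup -/
theorem cube_sylow' [Finite G] {p : ℕ} [Fact p.Prime] (U : Subgroup G) {u k m : ℕ} (hU : Nat.card U = u) (hu : u = p ^ k)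
    (hm : p.Coprime m) (hG : Nat.card G = u * m) {ι : Type*} [Fintype ι] (r : ι → G)
    (hdec : ∀ x : G, ∃ i, ∃ u ∈ U, ∃ u' ∈ U, x = u * r i * u')
    (hlt : (u * Fintype.card ι) ^ 3 < Nat.card G ^ 2) : CubeBound G := by
  have hp : p.Prime := Fact.out
  have hm0 : m ≠ 0 := by
    rintro rfl
    have : 0 < Nat.card G := Nat.card_pos
    omega
  have hc : Nat.card U = p ^ (Nat.card G).factorization p := by
    rw [hU, hG, hu]
    congr 1
    rw [Nat.factorization_mul (pow_ne_zero _ hp.ne_zero) hm0, Finsupp.add_apply, hp.factorization_pow,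
      Finsupp.single_eq_same, Nat.factorization_eq_zero_of_not_dvd ((Nat.Prime.coprime_iff_not_dvd hp).1 hm), add_zero]
  refine cube_sylow (Sylow.ofCard U hc) r hdec ?_
  have h1 : (Nat.card U * Fintype.card ι) ^ 3 < Nat.card G ^ 2 := by
    rw [hU]
    exact hlt
  exact h1

theorem cube_two_trans [Finite G] {p : ℕ} [Fact p.Prime] (S : Sylow p G)
    (h2 : MulAction.IsMultiplyPretransitive G (G ⧸ Subgroup.normalizer ((S : Subgroup G) : Set G)) 2)
    (hlt : (Nat.card (Subgroup.normalizer ((S : Subgroup G) : Set G)) * 2) ^ 3 < Nat.card G ^ 2) : CubeBound G := by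
  set H := Subgroup.normalizer ((S : Subgroup G) : Set G) with hH
  refine CubeBound.of_tw fun α hα => lt_of_le_of_lt (Nat.pow_le_pow_left ?_ 3) hlt
  obtain ⟨g, hg⟩ := exists_conj_sylow S α
  -- the automorphism moves `H` to a conjugate
  have hgH : ∀ u ∈ H, ∃ c ∈ H, α c = g * u * g⁻¹ := by
    intro u hu
    refine ⟨α.symm (g * u * g⁻¹), ?_, α.apply_symm_apply _⟩
    rw [hH, Subgroup.mem_normalizer_iff] at hu ⊢
    have key : ∀ x : G, x ∈ (S : Subgroup G) ↔ g⁻¹ * α x * g ∈ (S : Subgroup G) := by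
      intro x
      have e1 : α x ∈ (S : Subgroup G).map α.toMonoidHom ↔ x ∈ (S : Subgroup G) := by
        constructor
        · rintro ⟨y, hy, hxy⟩
          rwa [α.injective hxy] at hy
        · intro h
          exact ⟨x, h, rfl⟩
      rw [← e1, ← hg, Subgroup.mem_pointwise_smul_iff_inv_smul_mem]
      have e2 : (MulAut.conj g)⁻¹ • α x = g⁻¹ * α x * g := by
        rw [← map_inv]
        show g⁻¹ * α x * g⁻¹⁻¹ = _
        rw [inv_inv]
      rw [e2]
    intro x
    rw [key x, key (α.symm (g * u * g⁻¹) * x * (α.symm (g * u * g⁻¹))⁻¹)]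
    have e3 : g⁻¹ * α (α.symm (g * u * g⁻¹) * x * (α.symm (g * u * g⁻¹))⁻¹) * g =
        u * (g⁻¹ * α x * g) * u⁻¹ := by
      rw [map_mul, map_mul, map_inv, MulEquiv.apply_symm_apply]
      group
    rw [e3]
    exact hu _
  -- two double cosets
  by_cases hHt : H = ⊤
  · -- one double coset
    have := cube_of_reps (mul_self_of_order hα) H g hgH (ι := Unit) (fun _ => 1)
      (fun x => ⟨(), x, by rw [hHt]; trivial, 1, one_mem _, by group⟩)
    refine this.trans ?_
    rw [Fintype.card_unit]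
    omega
  · obtain ⟨n, hn⟩ : ∃ n, n ∉ H := by
      by_contra hcon
      push Not at hcon
      exact hHt (eq_top_iff.2 fun x _ => hcon x)
    have := cube_of_reps (mul_self_of_order hα) H g hgH (ι := Bool) (fun b => if b then 1 else n) ?_
    · rwa [Fintype.card_bool] at this
    · intro x
      by_cases hx : x ∈ H
      · exact ⟨true, x, hx, 1, one_mem _, by simp⟩
      · refine ⟨false, ?_⟩
        rw [MulAction.is_two_pretransitive_iff] at h2
        have hne : ∀ y : G, y ∉ H → (QuotientGroup.mk (1 : G) : G ⧸ H) ≠ QuotientGroup.mk y := by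
          intro y hy e
          rw [QuotientGroup.eq, inv_one, one_mul] at e
          exact hy e
        obtain ⟨k, hk1, hk2⟩ := h2 (hne n hn) (hne x hx)
        have h3 : k ∈ H := by
          have : (QuotientGroup.mk (k * 1) : G ⧸ H) = QuotientGroup.mk 1 := hk1
          rw [QuotientGroup.eq] at this
          simpa using this
        have h4 : (k * n)⁻¹ * x ∈ H := by
          have : (QuotientGroup.mk (k * n) : G ⧸ H) = QuotientGroup.mk x := hk2
          rwa [QuotientGroup.eq] at this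
        exact ⟨k, h3, _, h4, by simp only [Bool.false_eq_true, if_false]; group⟩

end Cfsg.Agent.H383.Cube
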