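import Mathlib
import Cfsg.Agent.H383.Cube.Syl
import Cfsg.Agent.S0308
import Cfsg.Agent.S1068
import Cfsg.Agent.S1069
import Cfsg.Agent.S1090
import Cfsg.Agent.S1101
import Cfsg.Agent.S1110
import Cfsg.Agent.S1111
import Cfsg.Agent.S1163
import Cfsg.Agent.ChevalleyStructure.Ree.BN
import Cfsg.Agent.ChevalleyStructure.TwF4.BN

/-!
# The bound `|T| < |C_T(α)| ^ 3` for the Suzuki and Ree groups (helper383, S5721)
-/

set_option autoImplicit false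

namespace Cfsg.Agent.H383.Cube.TwSz

open Cfsg Cfsg.Lie

theorem num_of {a b : ℕ} (hab : 8 * a < b ^ 2) (ha : 0 < a) : (a * 2) ^ 3 < (a * b) ^ 2 := by
  calc (a * 2) ^ 3 = 8 * a * a ^ 2 := by ring
    _ < b ^ 2 * a ^ 2 := Nat.mul_lt_mul_of_pos_right hab (by positivity)
    _ = (a * b) ^ 2 := by ring

theorem cube_Sz {F : Type*} [Field F] [Fintype F] {m : ℕ} (hm : 1 ≤ m) (hF : Fintype.card F = 2 ^ (2 * m + 1)) :
    CubeBound ↥(Lie.Sz F (2 ^ (m + 1))) := by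
  have : Fact (Nat.Prime 2) := ⟨Nat.prime_two⟩
  obtain ⟨hcard, S, hH, -, h2, -⟩ := S1163.result hm hF
  refine cube_two_trans S h2 ?_
  rw [hH, hcard]
  have hq : 2 ^ 3 ≤ 2 ^ (2 * m + 1) := Nat.pow_le_pow_right (by norm_num) (by omega)
  generalize 2 ^ (2 * m + 1) = q at hq
  have hq1 : 0 < q - 1 := by omega
  refine num_of ?_ (Nat.mul_pos (Nat.pow_pos (by omega)) hq1)
  calc 8 * (q ^ 2 * (q - 1)) ≤ q * (q ^ 2 * q) := by
        apply Nat.mul_le_mul hq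
        exact Nat.mul_le_mul_left _ (Nat.sub_le _ _)
    _ = (q ^ 2) ^ 2 := by ring
    _ < (q ^ 2 + 1) ^ 2 := Nat.pow_lt_pow_left (by omega) (by norm_num)

theorem coprime_pow_add_one {p q k : ℕ} (hp : p.Prime) (hq : p ∣ q) (hk : k ≠ 0) : p.Coprime (q ^ k + 1) := by
  rw [Nat.Prime.coprime_iff_not_dvd hp]
  intro h
  have h1 : p ∣ q ^ k := dvd_pow hq hk
  have := (Nat.dvd_add_right h1).1 h
  exact hp.one_lt.ne' (Nat.dvd_one.1 this)

theorem coprime_pow_sub_one {p q k : ℕ} (hp : p.Prime) (hq : p ∣ q) (hq0 : 0 < q) (hk : k ≠ 0) : p.Coprime (q ^ k - 1) := by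
  rw [Nat.Prime.coprime_iff_not_dvd hp]
  intro h
  have h1 : p ∣ q ^ k := dvd_pow hq hk
  have h2 : 1 ≤ q ^ k := Nat.one_le_pow _ _ hq0
  have h3 := (Nat.dvd_sub_iff_right h2 h1).1 h
  exact hp.one_lt.ne' (Nat.dvd_one.1 h3)

theorem cube_Ree {K : Type*} [Field K] [Fintype K] {m : ℕ} (hm : 1 ≤ m) (hK : Fintype.card K = 3 ^ (2 * m + 1)) :
    CubeBound ↥(twistedG2 K (3 ^ m)) := by
  classical
  have : Fact (Nat.Prime 3) := ⟨Nat.prime_three⟩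
  obtain ⟨θ, c⟩ := Cfsg.Agent.ChevalleyStructure.Ree.Normal.exists_ctx hK
  have hcard := S1069.result hK
  have hU := (S1101.result hK).2
  have hq : 3 ^ 3 ≤ 3 ^ (2 * m + 1) := Nat.pow_le_pow_right (by norm_num) (by omega)
  have hKu : Fintype.card (Kˣ × Bool) = (3 ^ (2 * m + 1) - 1) * 2 := by
    rw [Fintype.card_prod, Fintype.card_bool, Fintype.card_units, hK]
  have hdvd : 3 ∣ 3 ^ (2 * m + 1) := dvd_pow_self _ (by omega)
  refine cube_sylow' (p := 3) (((chevG2.posUnipotent K ⊓ twistedG2 K (3 ^ m))).subgroupOf (twistedG2 K (3 ^ m)))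
    (u := (3 ^ (2 * m + 1)) ^ 3) (k := (2 * m + 1) * 3)
    (m := (3 ^ (2 * m + 1) - 1) * ((3 ^ (2 * m + 1)) ^ 3 + 1)) ?_ (by rw [pow_mul]) ?_ ?_
    (ι := Kˣ × Bool) (fun x => if x.2 then ⟨ChevalleyStructure.Ree.Gens.tU (3 ^ m) x.1, c.torus x.1⟩ else
      ⟨ChevalleyStructure.Ree.Gens.tU (3 ^ m) x.1 * ChevalleyStructure.Ree.Gens.nU K, mul_mem (c.torus x.1) c.nU_mem⟩) ?_ ?_
  · rw [← hU]
    exact Nat.card_congr (Subgroup.subgroupOfEquivOfLe inf_le_right).toEquiv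
  · refine Nat.Coprime.mul_right ?_ ?_
    · have h1 := coprime_pow_sub_one (k := 1) Nat.prime_three hdvd (by positivity) one_ne_zero
      rwa [pow_one] at h1
    · exact coprime_pow_add_one Nat.prime_three hdvd (by norm_num)
  · rw [hcard]; ring
  · intro g
    rcases c.bruhat g.2 with ⟨x, y, z, α, h⟩ | ⟨x, y, z, α, x', y', z', h⟩
    · refine ⟨(α, true), ⟨ChevalleyStructure.Ree.Gens.wU (3 ^ m) x y z, ChevalleyStructure.Ree.Gens.wU_mem _ _ _ _⟩, ?_, 1,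
        one_mem _, ?_⟩
      · exact ⟨ChevalleyStructure.Ree.BN.wU_pos _ _ _, ChevalleyStructure.Ree.Gens.wU_mem _ _ _ _⟩
      · apply Subtype.ext
        rw [mul_one]
        exact h
    · refine ⟨(α, false), ⟨ChevalleyStructure.Ree.Gens.wU (3 ^ m) x y z, ChevalleyStructure.Ree.Gens.wU_mem _ _ _ _⟩, ?_,
        ⟨ChevalleyStructure.Ree.Gens.wU (3 ^ m) x' y' z', ChevalleyStructure.Ree.Gens.wU_mem _ _ _ _⟩, ?_, ?_⟩
      · exact ⟨ChevalleyStructure.Ree.BN.wU_pos _ _ _, ChevalleyStructure.Ree.Gens.wU_mem _ _ _ _⟩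
      · exact ⟨ChevalleyStructure.Ree.BN.wU_pos _ _ _, ChevalleyStructure.Ree.Gens.wU_mem _ _ _ _⟩
      · apply Subtype.ext
        rw [h]
        simp only [Bool.false_eq_true, if_false]
        show _ = _ * (_ * _) * _
        rw [← mul_assoc]
  · rw [hKu, hcard]
    generalize 3 ^ (2 * m + 1) = q at hq
    have hq1 : 0 < q - 1 := by omega
    have h1 := num_of (a := q ^ 3 * (q - 1)) (b := q ^ 3 + 1) ?_ (Nat.mul_pos (Nat.pow_pos (by omega)) hq1)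
    · rw [← mul_assoc]
      exact h1
    · calc 8 * (q ^ 3 * (q - 1)) ≤ q ^ 2 * (q ^ 3 * q) := by
            apply Nat.mul_le_mul (by nlinarith)
            exact Nat.mul_le_mul_left _ (Nat.sub_le _ _)
        _ = (q ^ 3) ^ 2 := by ring
        _ < (q ^ 3 + 1) ^ 2 := Nat.pow_lt_pow_left (by omega) (by norm_num)

theorem num_F4 {q : ℕ} (hq : 8 ≤ q) : (q ^ 12 * ((q - 1) ^ 2 * 16)) ^ 3 <
    (q ^ 12 * (q - 1) * (q ^ 3 + 1) * (q ^ 4 - 1) * (q ^ 6 + 1)) ^ 2 := by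
  obtain ⟨c, rfl⟩ : ∃ c, q = c + 1 := ⟨q - 1, by omega⟩
  have hc7 : 0 < c := by omega
  have e1 : (c + 1) ^ 4 - 1 = c * (c ^ 3 + 4 * c ^ 2 + 6 * c + 4) := by
    apply Nat.sub_eq_of_eq_add; ring
  have e2 : c + 1 - 1 = c := rfl
  rw [e1, e2]
  set b := ((c + 1) ^ 3 + 1) * (c ^ 3 + 4 * c ^ 2 + 6 * c + 4) * ((c + 1) ^ 6 + 1) with hb
  have hb1 : (c + 1) ^ 3 * c ^ 3 * (c + 1) ^ 6 ≤ b := by
    rw [hb]
    gcongr
    · omega
    · omega
    · omega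
  have h1 : 4096 * ((c + 1) ^ 12 * c ^ 2) < b ^ 2 := by
    have h2 : 4096 < (c + 1) ^ 6 := lt_of_lt_of_le (by norm_num) (Nat.pow_le_pow_left hq 6)
    calc 4096 * ((c + 1) ^ 12 * c ^ 2) < (c + 1) ^ 6 * ((c + 1) ^ 12 * c ^ 2) :=
          Nat.mul_lt_mul_of_pos_right h2 (by positivity)
      _ = (c + 1) ^ 18 * c ^ 2 * 1 := by ring
      _ ≤ (c + 1) ^ 18 * c ^ 2 * c ^ 4 := Nat.mul_le_mul_left _ (Nat.one_le_pow _ _ hc7)
      _ = ((c + 1) ^ 3 * c ^ 3 * (c + 1) ^ 6) ^ 2 := by ring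
      _ ≤ b ^ 2 := Nat.pow_le_pow_left hb1 2
  calc ((c + 1) ^ 12 * (c ^ 2 * 16)) ^ 3 = 4096 * ((c + 1) ^ 12 * c ^ 2) * ((c + 1) ^ 12 * c ^ 2) ^ 2 := by ring
    _ < b ^ 2 * ((c + 1) ^ 12 * c ^ 2) ^ 2 := Nat.mul_lt_mul_of_pos_right h1 (by positivity)
    _ = _ := by rw [hb]; ring

theorem card_N_F4 {K : Type*} [Field K] [Fintype K] {m : ℕ} (hK : Fintype.card K = 2 ^ (2 * m + 1)) :
    Nat.card ↥(chevF4.monomialSubgroup K ⊓ twistedF4 K (2 ^ m)) = (2 ^ (2 * m + 1) - 1) ^ 2 * 16 := by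
  obtain ⟨φ, hs, hk⟩ := S1111.result hK
  have h1 := φ.ker.card_mul_index
  rw [Subgroup.index_ker, MonoidHom.range_eq_top.2 hs, Subgroup.card_top, DihedralGroup.nat_card] at h1
  have hle : chevF4.diagonalSubgroup K ⊓ twistedF4 K (2 ^ m) ≤ chevF4.monomialSubgroup K ⊓ twistedF4 K (2 ^ m) :=
    inf_le_inf_right _ le_sup_left
  have h2 : Nat.card φ.ker = (2 ^ (2 * m + 1) - 1) ^ 2 := by
    rw [hk, ← S1110.result hK]
    exact Nat.card_congr (Subgroup.subgroupOfEquivOfLe hle).toEquiv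
  rw [← h1, h2]

theorem cube_twF4 {K : Type*} [Field K] [Fintype K] {m : ℕ} (hm : 1 ≤ m) (hK : Fintype.card K = 2 ^ (2 * m + 1)) :
    CubeBound ↥(twistedF4 K (2 ^ m)) := by
  classical
  have : Fact (Nat.Prime 2) := ⟨Nat.prime_two⟩
  have := Cfsg.Agent.ChevalleyStructure.TwF4.Twisted.charP_two hK
  obtain ⟨φ, hφ⟩ := Cfsg.Agent.ChevalleyStructure.TwF4.TwistedFix.exists_rln hK
  obtain ⟨P, hB, hN, -⟩ := Cfsg.Agent.ChevalleyStructure.TwF4.BN.exists_bnPair hφ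
  have hcard := S1068.result hK
  have hU := S1090.result hK
  have hq : 2 ^ 3 ≤ 2 ^ (2 * m + 1) := Nat.pow_le_pow_right (by norm_num) (by omega)
  have hdvd : 2 ∣ 2 ^ (2 * m + 1) := dvd_pow_self _ (by omega)
  have hNc := card_N_F4 hK
  have : Fintype ↥(chevF4.monomialSubgroup K ⊓ twistedF4 K (2 ^ m)) := Fintype.ofFinite _
  rw [Nat.card_eq_fintype_card] at hNc
  set q := 2 ^ (2 * m + 1) with hqdef
  have hq1 : 0 < q := by omega
  have hBdec : ∀ b : ↥(twistedF4 K (2 ^ m)), b ∈ P.B →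
      ∃ u ∈ (chevF4.posUnipotent K ⊓ twistedF4 K (2 ^ m)).subgroupOf (twistedF4 K (2 ^ m)),
        ∃ h ∈ (chevF4.diagonalSubgroup K).subgroupOf (twistedF4 K (2 ^ m)), b = u * h := by
    intro b hb
    rw [hB] at hb
    obtain ⟨u, hu, huG, h, hh, hhG, e⟩ := ((ChevalleyStructure.TwF4.BN.twistedData hφ).mem_B_iff _ b.2).1 hb
    exact ⟨⟨u, huG⟩, ⟨hu, huG⟩, ⟨h, hhG⟩, hh, Subtype.ext e⟩
  refine cube_sylow' (p := 2) ((chevF4.posUnipotent K ⊓ twistedF4 K (2 ^ m)).subgroupOf (twistedF4 K (2 ^ m)))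
    (u := q ^ 12) (k := (2 * m + 1) * 12)
    (m := (q - 1) * (q ^ 3 + 1) * (q ^ 4 - 1) * (q ^ 6 + 1)) ?_ (by rw [pow_mul]) ?_ ?_
    (ι := ↥(chevF4.monomialSubgroup K ⊓ twistedF4 K (2 ^ m))) (fun x => ⟨x, x.2.2⟩) ?_ ?_
  · rw [← hU]
    exact Nat.card_congr (Subgroup.subgroupOfEquivOfLe inf_le_right).toEquiv
  · refine ((Nat.Coprime.mul_right ?_ ?_).mul_right ?_).mul_right ?_
    · have h1 := coprime_pow_sub_one (k := 1) Nat.prime_two hdvd hq1 one_ne_zero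
      rwa [pow_one] at h1
    · exact coprime_pow_add_one Nat.prime_two hdvd (by norm_num)
    · exact coprime_pow_sub_one Nat.prime_two hdvd hq1 (by norm_num)
    · exact coprime_pow_add_one Nat.prime_two hdvd (by norm_num)
  · rw [hcard]; ring
  · intro g
    obtain ⟨n, hn, hg⟩ := S0308.result P g
    rw [DoubleCoset.mem_doubleCoset] at hg
    obtain ⟨b, hb, b', hb', e⟩ := hg
    obtain ⟨u, hu, h, hh, e1⟩ := hBdec b hb
    obtain ⟨u', hu', h', hh', e2⟩ := hBdec b'⁻¹ (inv_mem hb')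
    rw [hN] at hn
    have hle : (chevF4.diagonalSubgroup K : Subgroup _) ≤ chevF4.monomialSubgroup K := le_sup_left
    have hm1 : h * n * h'⁻¹ ∈ (chevF4.monomialSubgroup K).subgroupOf (twistedF4 K (2 ^ m)) :=
      mul_mem (mul_mem (hle hh) hn) (inv_mem (hle hh'))
    refine ⟨⟨((h * n * h'⁻¹ : ↥(twistedF4 K (2 ^ m))) : GL chevF4.Idx K), hm1, (h * n * h'⁻¹).2⟩, u, hu, u'⁻¹, inv_mem hu', ?_⟩
    show g = u * (h * n * h'⁻¹) * u'⁻¹
    have e3 : b' = (u' * h')⁻¹ := by rw [← e2, inv_inv]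
    rw [e, e1, e3]
    group
  · rw [hNc, hcard]
    exact num_F4 hq

end Cfsg.Agent.H383.Cube.TwSz
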