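import Mathlib
import Cfsg.Agent.H383.Cube.Crude
import Cfsg.Agent.H383.Cube.GTwo
import Cfsg.Agent.Nodes.RGDTwD4
import Cfsg.Agent.Nodes.RGDTwE6
import Cfsg.Agent.S1066
import Cfsg.Agent.S1067
import Cfsg.Agent.S1106

/-!
# The bound `|T| < |C_T(α)| ^ 3` for ³D₄ and ²E₆ (helper383, S5721)
-/

set_option autoImplicit false
set_option linter.unusedSectionVars false

namespace Cfsg.Agent.H383.Cube.Twist

open Cfsg CoxeterSystem Cfsg.Agent.ChevalleyStructure.CoxeterGeom Cfsg.Agent.Tits.Roots Cfsg.Agent.Tits.Core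
  Cfsg.Agent.Tits.Exchange Cfsg.Agent.Nodes.Reps Cfsg.Agent.Nodes.BNOf Cfsg.Agent.Nodes.StabComb
  Cfsg.Agent.Nodes.Bruhat Cfsg.Agent.Nodes.LeviDec Cfsg.Agent.Nodes.NormalForm
open Cfsg.Lie Cfsg.Agent.KFacts.RgdDiag

universe u

theorem coprime_pow_add_one {p q k : ℕ} (hp : p.Prime) (hq : p ∣ q) (hk : k ≠ 0) : p.Coprime (q ^ k + 1) := by
  rw [Nat.Prime.coprime_iff_not_dvd hp]
  intro h
  have h1 : p ∣ q ^ k := dvd_pow hq hk
  have := (Nat.dvd_add_right h1).1 h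
  exact hp.one_lt.ne' (Nat.dvd_one.1 this)

theorem coprime_pow_sub_one {p q k : ℕ} (hp : p.Prime) (hq : p ∣ q) (hq0 : 0 < q) (hk : k ≠ 0) : p.Coprime (q ^ k - 1) := by
  rw [Nat.Prime.coprime_iff_not_dvd hp]
  intro h
  have h1 : p ∣ q ^ k := dvd_pow hq hk
  have h2 : 1 ≤ q ^ k := Nat.one_le_pow _ _ hq0
  have h3 := (Nat.dvd_sub_iff_right h2 h1).1 h
  exact hp.one_lt.ne' (Nat.dvd_one.1 h3)

/-- **²E₆(q)** -/
theorem cube_twE6 {K : Type u} [Field K] [Fintype K] {q : ℕ} (hq : IsPrimePow q) (hK : Fintype.card K = q ^ 2) :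
    CubeBound ↥(twistedE6 K q) := by
  obtain ⟨φ, hφ, hqq⟩ := ChevalleyStructure.TwE6Basic.exists_frob hq hK
  obtain ⟨p, hpK⟩ := CharP.exists K
  have hpf : Fact p.Prime := ⟨CharP.char_is_prime K p⟩
  have hp : p.Prime := hpf.out
  have hpq : p ∣ q := by
    have h1 : p ∣ Fintype.card K := by
      obtain ⟨n, -, h⟩ := FiniteField.card K p
      rw [h]
      exact dvd_pow_self _ n.ne_zero
    rw [hK] at h1
    exact hp.dvd_of_dvd_pow h1
  obtain ⟨r, k, hr, hk, hrk⟩ := hq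
  have hrp : p = r := by
    rw [← hrk] at hpq
    exact (Nat.prime_dvd_prime_iff_eq hp (Nat.prime_iff.2 hr)).1 (hp.dvd_of_dvd_pow hpq)
  subst hrp
  have hq2 : 2 ≤ q := by
    rw [← hrk]
    exact hp.two_le.trans (Nat.le_self_pow hk.ne' _)
  have hfin : Finite CoxeterMatrix.F₄.Group :=
    Nodes.RGDFold.finite_W (hp := Nodes.RGDTwE6.hp) CoxeterMatrix.F₄.toCoxeterSystem Nodes.RGDTwE6.isCartan Nodes.RGDTwE6.foldData
  have R := Nodes.RGDTwE6.rgd CoxeterMatrix.F₄.toCoxeterSystem hφ hqq p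
  have hG : GG CoxeterMatrix.F₄.toCoxeterSystem Nodes.RGDTwE6.isCartan (Nodes.RGDTwE6.T K q) (Nodes.RGDTwE6.X φ q) = ⊤ := by
    rw [eq_top_iff, ← Nodes.RGDTwE6.G1_eq_top CoxeterMatrix.F₄.toCoxeterSystem hφ hqq]
    exact le_sup_right
  have hcard := S1066.result (K := K) ⟨p, k, hr, hk, hrk⟩ hK
  set A := (q ^ 2 - 1) * (q ^ 5 + 1) * (q ^ 6 - 1) * (q ^ 8 - 1) * (q ^ 9 + 1) * (q ^ 12 - 1) with hA
  have hcard' : Nat.gcd 3 (q + 1) * Nat.card ↥(twistedE6 K q) = q ^ 36 * A := by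
    rw [hcard, hA]; ring
  have hpA : p.Coprime A := by
    have h0 : 0 < q := by omega
    refine ((((Nat.Coprime.mul_right ?_ ?_).mul_right ?_).mul_right ?_).mul_right ?_).mul_right ?_
    · exact coprime_pow_sub_one hp hpq h0 (by norm_num)
    · exact coprime_pow_add_one hp hpq (by norm_num)
    · exact coprime_pow_sub_one hp hpq h0 (by norm_num)
    · exact coprime_pow_sub_one hp hpq h0 (by norm_num)
    · exact coprime_pow_add_one hp hpq (by norm_num)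
    · exact coprime_pow_sub_one hp hpq h0 (by norm_num)
  have hd : Nat.gcd 3 (q + 1) ∣ A := by
    have h1 : Nat.gcd 3 (q + 1) ∣ q ^ 36 * A := ⟨_, hcard'.symm⟩
    refine Nat.Coprime.dvd_of_dvd_mul_left ?_ h1
    apply Nat.Coprime.pow_right
    refine Nat.Coprime.coprime_dvd_left (Nat.gcd_dvd_right 3 (q + 1)) ?_
    simp
  obtain ⟨m, hm⟩ := hd
  have hd0 : 0 < Nat.gcd 3 (q + 1) := Nat.gcd_pos_of_pos_left _ (by norm_num)
  have hY : Nat.card ↥(twistedE6 K q) = q ^ 36 * m := by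
    apply Nat.eq_of_mul_eq_mul_left hd0
    rw [hcard', hm]; ring
  have hpm : p.Coprime m := by
    rw [hm] at hpA
    exact Nat.Coprime.coprime_mul_left_right hpA
  refine cube_crude R hG (s := 1152) (u := q ^ 36) (m := m) (k := k * 36)
    (Chev.card_le_of_card (S1092.result (⟨4, CoxeterMatrix.F₄⟩, 1152) (by simp)) (by norm_num)) ?_ hpm hY ?_
  · rw [← hrk, pow_mul]
  · rw [hY]
    rcases Nat.lt_or_ge q 3 with h3 | h3
    · have h2 : q = 2 := by omega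
      rw [h2] at hm hA ⊢
      have : m = (2 ^ 2 - 1) * (2 ^ 5 + 1) * (2 ^ 6 - 1) * (2 ^ 8 - 1) * (2 ^ 9 + 1) * (2 ^ 12 - 1) / 3 := by
        rw [← hA, hm]
        norm_num
      rw [this]
      norm_num
    · have hmA : m ≤ A := by
        rw [hm]
        exact Nat.le_mul_of_pos_left m hd0
      have hA2 : A ≤ 4 * q ^ 42 := by
        have e1 : q ^ 5 + 1 ≤ 2 * q ^ 5 := by have := Nat.one_le_pow 5 q (by omega); omega
        have e2 : q ^ 9 + 1 ≤ 2 * q ^ 9 := by have := Nat.one_le_pow 9 q (by omega); omega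
        calc A ≤ q ^ 2 * (2 * q ^ 5) * q ^ 6 * q ^ 8 * (2 * q ^ 9) * q ^ 12 := by
              rw [hA]
              gcongr <;> exact Nat.sub_le _ _
          _ = 4 * q ^ 42 := by ring
      have hq30 : 1152 ^ 3 * 4 < q ^ 30 := lt_of_lt_of_le (by norm_num) (Nat.pow_le_pow_left h3 30)
      calc 1152 ^ 3 * (q ^ 36 * m) ≤ 1152 ^ 3 * (q ^ 36 * (4 * q ^ 42)) :=
            Nat.mul_le_mul_left _ (Nat.mul_le_mul_left _ (hmA.trans hA2))
        _ = (1152 ^ 3 * 4) * q ^ 78 := by ring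
        _ < q ^ 30 * q ^ 78 := Nat.mul_lt_mul_of_pos_right hq30 (Nat.pow_pos (by omega))
        _ = (q ^ 36) ^ 3 := by ring

/-- **³D₄(q)** -/
theorem cube_twD4 {K : Type u} [Field K] [Fintype K] {q : ℕ} (hq : IsPrimePow q) (hK : Fintype.card K = q ^ 3) :
    CubeBound ↥(twistedD4 K q) := by
  obtain ⟨φ, hφ⟩ := ChevalleyStructure.D4Fixed.exists_frob hq hK
  obtain ⟨p, hpK⟩ := CharP.exists K
  have hpf : Fact p.Prime := ⟨CharP.char_is_prime K p⟩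
  have hp : p.Prime := hpf.out
  have hpq : p ∣ q := by
    have h1 : p ∣ Fintype.card K := by
      obtain ⟨n, -, h⟩ := FiniteField.card K p
      rw [h]
      exact dvd_pow_self _ n.ne_zero
    rw [hK] at h1
    exact hp.dvd_of_dvd_pow h1
  obtain ⟨r, k, hr, hk, hrk⟩ := hq
  have hrp : p = r := by
    rw [← hrk] at hpq
    exact (Nat.prime_dvd_prime_iff_eq hp (Nat.prime_iff.2 hr)).1 (hp.dvd_of_dvd_pow hpq)
  subst hrp
  have hq2 : 2 ≤ q := by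
    rw [← hrk]
    exact hp.two_le.trans (Nat.le_self_pow hk.ne' _)
  have hfin : Finite CoxeterMatrix.G₂.Group :=
    Nodes.RGDFold.finite_W (hp := Nodes.RGDTwD4.hp) CoxeterMatrix.G₂.toCoxeterSystem Nodes.RGDTwD4.isCartan Nodes.RGDTwD4.foldData
  have R := Nodes.RGDTwD4.rgd CoxeterMatrix.G₂.toCoxeterSystem hK hφ p
  have hG : GG CoxeterMatrix.G₂.toCoxeterSystem Nodes.RGDTwD4.isCartan (Nodes.RGDTwD4.T K q) (Nodes.RGDTwD4.X φ q) = ⊤ := by
    rw [eq_top_iff, ← Nodes.RGDTwD4.G1_eq_top CoxeterMatrix.G₂.toCoxeterSystem hK hφ]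
    exact le_sup_right
  have hcard := S1067.result (K := K) ⟨p, k, hr, hk, hrk⟩ hK
  have hT : Nat.card ↥(Nodes.RGDTwD4.T K q) ≤ (q - 1) ^ 2 * (q ^ 2 + q + 1) := by
    rw [← S1106.result (K := K) ⟨p, k, hr, hk, hrk⟩ hK]
    refine Nat.card_le_card_of_injective (fun x : ↥(Nodes.RGDTwD4.T K q) =>
      (⟨(x : ↥(twistedD4 K q)), x.2⟩ : ↥(chevD4.diagonalSubgroup K ⊓ twistedD4 K q))) ?_
    intro a b e
    have e1 := congrArg Subtype.val e
    exact Subtype.ext (Subtype.ext e1)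
  have hY : Nat.card ↥(twistedD4 K q) = q ^ 12 * ((q ^ 2 - 1) * (q ^ 6 - 1) * (q ^ 8 + q ^ 4 + 1)) := by
    rw [hcard]; ring
  have hpm : p.Coprime ((q ^ 2 - 1) * (q ^ 6 - 1) * (q ^ 8 + q ^ 4 + 1)) := by
    have h0 : 0 < q := by omega
    refine (Nat.Coprime.mul_right ?_ ?_).mul_right ?_
    · exact coprime_pow_sub_one hp hpq h0 (by norm_num)
    · exact coprime_pow_sub_one hp hpq h0 (by norm_num)
    · have : q ^ 8 + q ^ 4 + 1 = (q * (q ^ 7 + q ^ 3)) ^ 1 + 1 := by ring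
      rw [this]
      exact coprime_pow_add_one hp (hpq.mul_right _) one_ne_zero
  obtain ⟨c, rfl⟩ : ∃ c, q = c + 1 := ⟨q - 1, by omega⟩
  have hfac : ((c + 1) ^ 2 - 1) * ((c + 1) ^ 6 - 1) =
      (c + 1 - 1) ^ 2 * ((c + 1) ^ 2 + (c + 1) + 1) * (((c + 1) + 1) * ((c + 1) ^ 3 + 1)) := by
    have e1 : (c + 1) ^ 2 - 1 = c * (c + 2) := by
      apply Nat.sub_eq_of_eq_add; ring
    have e2 : (c + 1) ^ 6 - 1 = c * ((c + 1) ^ 2 + (c + 1) + 1) * ((c + 1) ^ 3 + 1) := by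
      apply Nat.sub_eq_of_eq_add; ring
    rw [e1, e2, Nat.add_sub_cancel]
    ring
  refine cube_torus R hG (s := 8) (u := (c + 1) ^ 12) (k := k * 12)
    (N := ((c + 1) + 1) * ((c + 1) ^ 3 + 1) * ((c + 1) ^ 8 + (c + 1) ^ 4 + 1)) Chev.card_G2 ?_ hpm hY hT ?_ ?_
  · rw [← hrk, pow_mul]
  · rw [hY, hfac]
    apply le_of_eq
    ring
  · rw [hY, hfac]
    have key : 8 ^ 3 * ((c + 1) ^ 12 * ((c + 1 - 1) ^ 2 * ((c + 1) ^ 2 + (c + 1) + 1))) <
        (((c + 1) + 1) * ((c + 1) ^ 3 + 1) * ((c + 1) ^ 8 + (c + 1) ^ 4 + 1)) ^ 2 := by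
      rcases Nat.lt_or_ge (c + 1) 3 with h3 | h3
      · have h2 : c + 1 = 2 := by omega
        rw [h2]
        norm_num
      · set q := c + 1
        have e1 : (q - 1) ^ 2 * (q ^ 2 + q + 1) ≤ q ^ 2 * (3 * q ^ 2) := by
          apply Nat.mul_le_mul (Nat.pow_le_pow_left (Nat.sub_le _ _) _)
          nlinarith
        have e2 : 8 ^ 3 * 3 < q ^ 8 := lt_of_lt_of_le (by norm_num) (Nat.pow_le_pow_left h3 8)
        have e3 : q ^ 12 ≤ (q + 1) * (q ^ 3 + 1) * (q ^ 8 + q ^ 4 + 1) := by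
          calc q ^ 12 = q * q ^ 3 * q ^ 8 := by ring
            _ ≤ (q + 1) * (q ^ 3 + 1) * (q ^ 8 + q ^ 4 + 1) := by
                gcongr
                · omega
                · omega
                · omega
        calc 8 ^ 3 * (q ^ 12 * ((q - 1) ^ 2 * (q ^ 2 + q + 1))) ≤ 8 ^ 3 * (q ^ 12 * (q ^ 2 * (3 * q ^ 2))) :=
              Nat.mul_le_mul_left _ (Nat.mul_le_mul_left _ e1)
          _ = (8 ^ 3 * 3) * q ^ 16 := by ring
          _ < q ^ 8 * q ^ 16 := Nat.mul_lt_mul_of_pos_right e2 (Nat.pow_pos (by omega))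
          _ = (q ^ 12) ^ 2 := by ring
          _ ≤ _ := Nat.pow_le_pow_left e3 2
    calc 8 ^ 3 * ((c + 1) ^ 12 * ((c + 1 - 1) ^ 2 * ((c + 1) ^ 2 + (c + 1) + 1) * (((c + 1) + 1) * ((c + 1) ^ 3 + 1)) *
          ((c + 1) ^ 8 + (c + 1) ^ 4 + 1)))
        = (8 ^ 3 * ((c + 1) ^ 12 * ((c + 1 - 1) ^ 2 * ((c + 1) ^ 2 + (c + 1) + 1)))) *
          (((c + 1) + 1) * ((c + 1) ^ 3 + 1) * ((c + 1) ^ 8 + (c + 1) ^ 4 + 1)) := by ring
      _ < (((c + 1) + 1) * ((c + 1) ^ 3 + 1) * ((c + 1) ^ 8 + (c + 1) ^ 4 + 1)) ^ 2 *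
          (((c + 1) + 1) * ((c + 1) ^ 3 + 1) * ((c + 1) ^ 8 + (c + 1) ^ 4 + 1)) :=
            Nat.mul_lt_mul_of_pos_right key (by positivity)
      _ = _ := by ring

end Cfsg.Agent.H383.Cube.Twist
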