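import Mathlib
import Cfsg.Agent.S0000
import Cfsg.Agent.H383.Cube.Small
import Cfsg.Agent.H383.Cube.Twist
import Cfsg.Agent.H383.Cube.TwSz
import Cfsg.Agent.H151.CubeTwo
import Cfsg.Agent.H177.CubeAlt
import Cfsg.Agent.H68.CubeTits
import Cfsg.Agent.H269.CubeMat
import Cfsg.Agent.H269.CubeJ1
import Cfsg.Agent.H269.CubeJ2
import Cfsg.Agent.H269.CubeJ3
import Cfsg.Agent.H47.CubeSporC
import Cfsg.Agent.H47.CubeSporD
import Cfsg.Agent.H692.CubeMcL
import Cfsg.Agent.H692.CubeHS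
import Cfsg.Agent.H692.CubeSuz
import Cfsg.Agent.H817.CubeHe
import Cfsg.Agent.H817.CubeHN
import Cfsg.Agent.H817.CubeON
import Cfsg.Agent.H383.Cube.FiTT
import Cfsg.Agent.H819.CubeFi24
import Cfsg.Agent.H848.CubeB
import Cfsg.Agent.H848.CubeM

/-!
# The bound `|T| < |C_T(α)| ^ 3` for all finite nonabelian simple groups (helper383, S5721)
-/

set_option autoImplicit false

namespace Cfsg.Agent.H383.Cube

open Cfsg

theorem CubeBound.of_equiv {G H : Type*} [Group G] [Group H] (e : G ≃* H) (h : CubeBound H) : CubeBound G :=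
  CubeBound.congr e.symm h

theorem cube_sporadic {G : Type*} [Group G] (h : IsSporadicGroup G) : CubeBound G := by
  rcases h with h | h | h | h | h | h | h | h | h | h | h | h | h | h | h | h | h | h | h | h | h | h | h | h | h | h
  · exact H269.CubeMat.cube_M11 h
  · exact H269.CubeMat.cube_M12 h
  · exact H269.CubeMat.cube_M22 h
  · exact H269.CubeMat.cube_M23 h
  · exact H269.CubeMat.cube_M24 h
  · exact H269.CubeJ1.cube_J1 h
  · exact H269.CubeJ2.cube_J2 h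
  · exact H269.CubeJ3.cube_J3 h
  · exact H47.Cube.cube_J4 h
  · exact H47.Cube.cube_Co1 h
  · exact H47.Cube.cube_Co2 h
  · exact H47.Cube.cube_Co3 h
  · exact H692.CubeMcL.cube_McL h
  · exact H692.CubeHS.cube_HS h
  · exact H692.CubeSuz.cube_Suz h
  · exact H817.CubeHe.cube_He h
  · exact H47.Cube.cube_Ru h
  · exact H817.CubeON.cube_ON h
  · exact H47.Cube.cube_Ly h
  · exact Cfsg.Agent.H383.Cube.FiTT.cube_Fi22 h
  · exact H47.Cube.cube_Fi23 h
  · exact H819.CubeFi24.cube_Fi24' h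
  · exact H817.CubeHN.cube_HN h
  · exact H47.Cube.cube_Th h
  · exact H848.CubeB.cube_B h
  · exact H848.CubeM.cube_M h

theorem cube_exceptional {G : Type*} [Group G] (h : IsExceptionalLieType G) : CubeBound G := by
  rcases h with h | h | h | h | h | h | h | h | h | h | h
  · obtain ⟨F, _, _, hF, ⟨e⟩⟩ := h
    exact (Chev.cube_G2 hF).of_equiv e
  · obtain ⟨F, _, _, ⟨e⟩⟩ := h
    exact (Chev.cube_F4 (K := F)).of_equiv e
  · obtain ⟨F, _, _, ⟨e⟩⟩ := h
    exact (Chev.cube_E6 (K := F)).of_equiv e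
  · obtain ⟨F, _, _, ⟨e⟩⟩ := h
    exact (Chev.cube_E7 (K := F)).of_equiv e
  · obtain ⟨F, _, _, ⟨e⟩⟩ := h
    exact (Chev.cube_E8 (K := F)).of_equiv e
  · obtain ⟨K, _, _, q, hq, hK, ⟨e⟩⟩ := h
    exact (Twist.cube_twE6 hq hK).of_equiv e
  · obtain ⟨K, _, _, q, hq, hK, ⟨e⟩⟩ := h
    exact (Twist.cube_twD4 hq hK).of_equiv e
  · obtain ⟨K, _, _, m, hm, hK, ⟨e⟩⟩ := h
    exact (TwSz.cube_Sz hm hK).of_equiv e
  · obtain ⟨K, _, _, m, hm, hK, ⟨e⟩⟩ := h
    exact (TwSz.cube_Ree hm hK).of_equiv e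
  · obtain ⟨K, _, _, m, hm, hK, ⟨e⟩⟩ := h
    exact (TwSz.cube_twF4 hm hK).of_equiv e
  · exact H68.CubeTits.cube_tits h

/-- **The bound for all finite nonabelian simple groups** -/
theorem cube_simple {G : Type*} [Group G] [Finite G] [IsSimpleGroup G] (hG : ¬ IsMulCommutative G) : CubeBound G := by
  rcases (S0000.result (G := G)) with h | h | h | h | h | h | h | h | h | h
  · have : Fact (Nat.card G).Prime := ⟨h⟩
    have : IsCyclic G := isCyclic_of_prime_card (p := Nat.card G) rfl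
    exact absurd IsCyclic.isMulCommutative hG
  · obtain ⟨n, hn, ⟨e⟩⟩ := h
    exact (H177.CubeAlt.cube_alt n hn).of_equiv e
  · obtain ⟨F, _, _, n, hn, h2, ⟨e⟩⟩ := h
    exact (H151.CubeTwo.cube_psl_all n hn fun h => by rw [Nat.card_eq_fintype_card]; exact h2 h).of_equiv e
  · obtain ⟨F, _, _, m, hm, h2, ⟨e⟩⟩ := h
    exact (Small.cube_PSp hm h2).of_equiv e
  · obtain ⟨F, _, _, n, q, hF, hn, h2, ⟨e⟩⟩ := h
    exact (Small.cube_PSU hF hn h2).of_equiv e
  · obtain ⟨F, _, _, m, hm, ho, ⟨e⟩⟩ := h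
    exact (Classical.cube_po_odd rfl ho hm).of_equiv e
  · obtain ⟨F, _, _, m, hm, ⟨e⟩⟩ := h
    exact (Classical.cube_po_plus rfl hm).of_equiv e
  · obtain ⟨F, _, _, m, a, b, hm, hab, ⟨e⟩⟩ := h
    exact (Classical.cube_po_minus rfl hm hab).of_equiv e
  · exact cube_exceptional h
  · exact cube_sporadic h

end Cfsg.Agent.H383.Cube
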